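import Mathlib
import Cfsg.Agent.Lib.Perm.NearField
import Cfsg.Agent.Lib.Perm.Zassenhaus.Field

/-!
# Linear groups transitive on the nonzero vectors: abelian normal subgroups give fields
-/

set_option autoImplicit false

namespace Cfsg.Agent.Perm.TransLinear

open NearField (Inv Irr endH alg endH_apply alg_mem alg_inv alg_comm alg_kernel_inv inv_top
  exists_irr_le irr_map inv_inf eq_zero_of_inf endH_injective finite_end finite_H toAlg toAlg_injective)

variable {p : ℕ} [hp : Fact p.Prime] {V : Type*} [AddCommGroup V] [Module (ZMod p) V]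
variable {H : Subgroup (V ≃ₗ[ZMod p] V)}

/-- `H` is transitive on the nonzero vectors. -/
def Trans (H : Subgroup (V ≃ₗ[ZMod p] V)) : Prop :=
  ∀ v w : V, v ≠ 0 → w ≠ 0 → ∃ h : H, (h : V ≃ₗ[ZMod p] V) v = w

variable {A : Subgroup H}

theorem exists_irr_mem [Finite V] (hT : Trans H) (hAn : A.Normal) {v : V} (hv : v ≠ 0) :
    ∃ U, Irr A U ∧ v ∈ U := by
  haveI : Nontrivial V := nontrivial_of_ne v 0 hv
  obtain ⟨W, -, hW⟩ := exists_irr_le (A := A) inv_top top_ne_bot
  obtain ⟨w, hw, hw0⟩ := Submodule.exists_mem_ne_zero_of_ne_bot hW.2.1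
  obtain ⟨h, hh⟩ := hT w v hw0 hv
  exact ⟨_, irr_map hAn hW h, w, hw, hh⟩

theorem alg_injective [Finite V] (hT : Trans H) (hAn : A.Normal) (hAc : IsMulCommutative A)
    {r : Module.End (ZMod p) V} (hr : r ∈ alg A) (hr0 : r ≠ 0) {w : V} (hw : r w = 0) : w = 0 := by
  by_contra hw0
  obtain ⟨v, hv⟩ : ∃ v, r v ≠ 0 := by
    by_contra! h
    exact hr0 (LinearMap.ext h)
  have hv0 : v ≠ 0 := fun e => hv (by rw [e, map_zero])
  have hwv : w + v ≠ 0 := fun e => hv (by
    have := congrArg r e
    rwa [map_add, hw, zero_add, map_zero] at this)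
  obtain ⟨U, hU, hvU⟩ := exists_irr_mem hT hAn hv0
  obtain ⟨U', hU', hwvU⟩ := exists_irr_mem hT hAn hwv
  have hrv : r (w + v) = r v := by rw [map_add, hw, zero_add]
  have heq : U' = U := Irr.eq_of_mem hU' hU hv (hrv ▸ alg_inv hU'.1 hr _ hwvU)
    (alg_inv hU.1 hr _ hvU)
  have hwU : w ∈ U := by
    have := U.sub_mem (heq ▸ hwvU) hvU
    rwa [add_sub_cancel_right] at this
  rcases hU.2.2 (U ⊓ LinearMap.ker r) inf_le_left (inv_inf hU.1 (alg_kernel_inv hAc hr)) with e | e
  · exact hw0 (eq_zero_of_inf e hwU hw)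
  · exact hv (e.symm ▸ hvU : v ∈ U ⊓ LinearMap.ker r).2

theorem alg_isDomain [Finite V] [Nontrivial V] (hT : Trans H) (hAn : A.Normal)
    (hAc : IsMulCommutative A) : IsDomain (alg A) := by
  haveI : NoZeroDivisors (alg A) := ⟨fun {x y} hxy => or_iff_not_imp_left.2 fun hx =>
    Subtype.ext (LinearMap.ext fun w => alg_injective hT hAn hAc x.2
      (fun e => hx (Subtype.ext e)) (LinearMap.congr_fun (congrArg Subtype.val hxy) w))⟩
  exact NoZeroDivisors.to_isDomain _

/-- The algebra is a copy of any irreducible subspace. -/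
theorem card_alg [Finite V] (hT : Trans H) (hAn : A.Normal) (hAc : IsMulCommutative A)
    {W : Submodule (ZMod p) V} (hW : Irr A W) : Nat.card (alg A) = Nat.card W := by
  obtain ⟨w₀, hw₀, hw0⟩ := Submodule.exists_mem_ne_zero_of_ne_bot hW.2.1
  refine Nat.card_eq_of_bijective (fun r => ⟨r.1 w₀, alg_inv hW.1 r.2 _ hw₀⟩) ⟨?_, ?_⟩
  · intro r s e
    have e' : (r.1 - s.1) w₀ = 0 := by
      rw [LinearMap.sub_apply, sub_eq_zero]; exact congrArg Subtype.val e
    by_contra hne
    exact hw0 (alg_injective hT hAn hAc ((alg A).sub_mem r.2 s.2)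
      (sub_ne_zero.2 fun h => hne (Subtype.ext h)) e')
  · let R : Submodule (ZMod p) V :=
      (Subalgebra.toSubmodule (alg A)).map
      (LinearMap.applyₗ (R := ZMod p) (M := V) (M₂ := V) w₀)
    have hR : Inv A R := by
      rintro a ha _ ⟨r, hr, rfl⟩
      exact ⟨endH H a * r, (alg A).mul_mem (alg_mem a ha) hr, rfl⟩
    have hle : R ≤ W := by
      rintro _ ⟨r, hr, rfl⟩
      exact alg_inv hW.1 hr _ hw₀
    rcases hW.2.2 R hle hR with e | e
    · refine absurd ((Submodule.mem_bot (ZMod p)).1 ?_) hw0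
      rw [← e]
      exact ⟨1, (alg A).one_mem, rfl⟩
    · intro w
      obtain ⟨r, hr, hrw⟩ := (e.symm ▸ w.2 : (w : V) ∈ R)
      exact ⟨⟨r, hr⟩, Subtype.ext hrw⟩

/-- a normal commutative irreducible subgroup makes the group semilinear -/
theorem semilinear_of_irr [Finite V] [Nontrivial V] (hT : Trans H) {A : Subgroup H}
    (hAn : A.Normal) (hAc : IsMulCommutative A) (hirr : Irr A ⊤) :
    ∃ (F : Type) (_ : Field F) (_ : Fintype F) (e : V ≃+ F),
      ∀ h : H, ∃ (a : F) (σ : F ≃+* F), ∀ v : V, e ((h : V ≃ₗ[ZMod p] V) v) = a * σ (e v) := by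
  classical
  haveI := finite_end (p := p) (V := V)
  obtain ⟨v₀, hv₀⟩ := exists_ne (0 : V)
  letI : CommRing (alg A) :=
    { (inferInstance : Ring (alg A)) with
      mul_comm := fun x y => Subtype.ext (alg_comm hAc x.2 y.2) }
  haveI : IsDomain (alg A) := alg_isDomain hT hAn hAc
  have := Fintype.ofFinite (alg A)
  letI : Field (alg A) := Fintype.fieldOfDomain (alg A)
  let φ : alg A →+ V := AddMonoidHom.mk' (fun r => (r : Module.End (ZMod p) V) v₀) fun r s => rfl
  have hφ : Function.Bijective φ := by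
    rw [Nat.bijective_iff_injective_and_card]
    refine ⟨fun r s e => ?_, ?_⟩
    · have e' : (r.1 - s.1) v₀ = 0 := by rw [LinearMap.sub_apply, sub_eq_zero]; exact e
      by_contra hne
      exact hv₀ (alg_injective hT hAn hAc ((alg A).sub_mem r.2 s.2)
        (sub_ne_zero.2 fun h => hne (Subtype.ext h)) e')
    · rw [card_alg hT hAn hAc hirr]
      exact Nat.card_congr (Equiv.Set.univ V)
  · have hmem : ∀ (h : H) (r : Module.End (ZMod p) V), r ∈ alg A →
        endH H h * r * endH H h⁻¹ ∈ alg A := by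
      intro h r hr
      induction hr using Algebra.adjoin_induction with
      | mem x hx =>
        obtain ⟨a, ha, rfl⟩ := hx
        rw [← map_mul, ← map_mul]
        exact alg_mem _ (hAn.conj_mem a ha h)
      | algebraMap c =>
        rw [← Algebra.commutes, mul_assoc, ← map_mul, mul_inv_cancel, map_one, mul_one]
        exact (alg A).algebraMap_mem c
      | add x y _ _ hx hy => rw [mul_add, add_mul]; exact add_mem hx hy
      | mul x y _ _ hx hy =>
        convert mul_mem hx hy using 1
        have e : endH H h⁻¹ * endH H h = 1 := by rw [← map_mul, inv_mul_cancel, map_one]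
        simp only [mul_assoc]
        rw [← mul_assoc (endH H h⁻¹) (endH H h), e, one_mul]
    let c : H → (alg A →+* alg A) := fun h =>
      { toFun := fun r => ⟨_, hmem h r r.2⟩
        map_one' := Subtype.ext (by simp [← map_mul])
        map_zero' := Subtype.ext (by simp)
        map_add' := fun r s => Subtype.ext (by simp [mul_add, add_mul])
        map_mul' := fun r s => Subtype.ext (by
          have e : endH H h⁻¹ * endH H h = 1 := by rw [← map_mul, inv_mul_cancel, map_one]
          simp only [Subalgebra.coe_mul, mul_assoc]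
          rw [← mul_assoc (endH H h⁻¹) (endH H h), e, one_mul]) }
    obtain ⟨K, iK, iK', ⟨ε⟩⟩ := Zassenhaus.exists_small_copy (alg A)
    let e : V ≃+ K := (AddEquiv.ofBijective φ hφ).symm.trans ε.symm.toAddEquiv
    refine ⟨K, iK, iK', e, fun h => ?_⟩
    obtain ⟨s, hs⟩ := hφ.2 ((h : V ≃ₗ[ZMod p] V) v₀)
    have hσ : Function.Bijective (c h) := Finite.injective_iff_bijective.1 (c h).injective
    refine ⟨ε.symm s, (ε.trans (RingEquiv.ofBijective (c h) hσ)).trans ε.symm, fun v => ?_⟩
    obtain ⟨r, rfl⟩ := hφ.2 v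
    have h1 : (h : V ≃ₗ[ZMod p] V) (φ r) = φ (s * c h r) := by
      have e1 : φ (s * c h r) = φ (c h r * s) := by rw [mul_comm]
      rw [e1]
      show endH H h ((r : Module.End (ZMod p) V) v₀)
        = (endH H h * (r : Module.End (ZMod p) V) * endH H h⁻¹) ((s : Module.End (ZMod p) V) v₀)
      rw [show (s : Module.End (ZMod p) V) v₀ = (h : V ≃ₗ[ZMod p] V) v₀ from hs,
        Module.End.mul_apply, Module.End.mul_apply, ← endH_apply, ← Module.End.mul_apply (endH H h⁻¹),
        ← map_mul, inv_mul_cancel, map_one, Module.End.one_apply]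
    have he : ∀ x : alg A, e (φ x) = ε.symm x := fun x => by
      show ε.symm ((AddEquiv.ofBijective φ hφ).symm (φ x)) = _
      rw [show (AddEquiv.ofBijective φ hφ).symm (φ x) = x from
        (AddEquiv.ofBijective φ hφ).symm_apply_apply x]
    rw [h1, he, he, map_mul]
    show _ = ε.symm s * ε.symm (c h (ε (ε.symm r)))
    rw [RingEquiv.apply_symm_apply]

end Cfsg.Agent.Perm.TransLinear
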