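import Mathlib

/-!
# Commutator pairings of class two subgroups over a central cyclic subgroup
-/

set_option autoImplicit false

namespace Cfsg.Agent.Perm.TransLinear

open scoped commutatorElement

variable {G : Type*} [Group G] {A N : Subgroup G} {r : ℕ}

/-- `N` is of class two over the central cyclic subgroup `A`, with nondegenerate pairing. -/
structure Sympl (A N : Subgroup G) (r : ℕ) : Prop where
  prime : r.Prime
  le : A ≤ N
  cyc : IsCyclic A
  cen : ∀ a ∈ A, ∀ y ∈ N, a * y = y * a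
  comm : ∀ x ∈ N, ∀ y ∈ N, ⁅x, y⁆ ∈ A
  pow : ∀ x ∈ N, x ^ r ∈ A
  radical : ∀ z ∈ N, (∀ y ∈ N, z * y = y * z) → z ∈ A

theorem Sympl.comm_mul_left (h : Sympl A N r) {x x' y : G} (hx : x ∈ N) (hx' : x' ∈ N)
    (hy : y ∈ N) : ⁅x * x', y⁆ = ⁅x, y⁆ * ⁅x', y⁆ := by
  have e : ⁅x * x', y⁆ = x * ⁅x', y⁆ * x⁻¹ * ⁅x, y⁆ := by
    simp only [commutatorElement_def]; group
  rw [e, ← h.cen _ (h.comm x' hx' y hy) x hx, mul_inv_cancel_right,
    h.cen _ (h.comm x' hx' y hy) _ (h.le (h.comm x hx y hy))]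

/-- the pairing with a fixed element as a homomorphism -/
def Sympl.ad (h : Sympl A N r) (y : G) (hy : y ∈ N) : N →* A :=
  MonoidHom.mk' (fun x => ⟨⁅(x : G), y⁆, h.comm x x.2 y hy⟩)
    fun a b => Subtype.ext (h.comm_mul_left a.2 b.2 hy)

theorem Sympl.comm_eq_one_of_mem (h : Sympl A N r) {a y : G} (ha : a ∈ A) (hy : y ∈ N) :
    ⁅a, y⁆ = 1 :=
  commutatorElement_eq_one_iff_mul_comm.2 (h.cen a ha y hy)

theorem Sympl.comm_pow (h : Sympl A N r) {x y : G} (hx : x ∈ N) (hy : y ∈ N) :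
    ⁅x, y⁆ ^ r = 1 := by
  have e := map_pow (h.ad y hy) ⟨x, hx⟩ r
  rw [show h.ad y hy (⟨x, hx⟩ ^ r) = 1 from
    Subtype.ext (h.comm_eq_one_of_mem (h.pow x hx) hy)] at e
  exact (congrArg Subtype.val e).symm

/-- a cyclic group has only one subgroup of prime order -/
theorem mem_zpowers_of_pow_eq_one {C : Type*} [Group C] [Finite C] [IsCyclic C] {q : ℕ}
    (hq : q.Prime) {c d : C} (hc : c ^ q = 1) (hc1 : c ≠ 1) (hd : d ^ q = 1) :
    d ∈ Subgroup.zpowers c := by
  classical
  have := Fintype.ofFinite C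
  have hco : orderOf c = q := by
    haveI := Fact.mk hq
    exact orderOf_eq_prime hc hc1
  have hsub : (Subgroup.zpowers c : Set C).toFinset ⊆ ({a : C | a ^ q = 1} : Finset C) := by
    intro a ha
    rw [Set.mem_toFinset, SetLike.mem_coe] at ha
    obtain ⟨i, rfl⟩ := Subgroup.mem_zpowers_iff.1 ha
    simp only [Finset.mem_filter, Finset.mem_univ, true_and]
    rw [← zpow_natCast, ← zpow_mul, mul_comm, zpow_mul, zpow_natCast, hc, one_zpow]
  have hcard : ({a : C | a ^ q = 1} : Finset C).card ≤ (Subgroup.zpowers c : Set C).toFinset.card := by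
    rw [Set.toFinset_card]
    simp only [SetLike.coe_sort_coe]
    rw [← Nat.card_eq_fintype_card, Nat.card_zpowers, hco]
    exact IsCyclic.card_pow_eq_one_le hq.pos
  have hd' : d ∈ (Subgroup.zpowers c : Set C).toFinset := by
    rw [Finset.eq_of_subset_of_card_le hsub hcard]
    simp [hd]
  simpa using hd'

/-- a nondegenerate layer has square index -/
theorem Sympl.square [Finite G] (h : Sympl A N r) :
    ∀ (M : Subgroup G), A ≤ M → M ≤ N → (∀ z ∈ M, (∀ y ∈ M, z * y = y * z) → z ∈ A) →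
      ∃ d, A.relIndex M = r ^ (2 * d) := by
  classical
  intro M
  induction M using WellFoundedLT.induction with
  | ind M ih => ?_
  intro hAM hMN hrad
  by_cases hMA : M ≤ A
  · exact ⟨0, by rw [mul_zero, pow_zero, Subgroup.relIndex_eq_one]; exact hMA⟩
  obtain ⟨u, hu, huA⟩ := SetLike.not_le_iff_exists.1 hMA
  obtain ⟨v, hv, huv⟩ : ∃ v ∈ M, ⁅u, v⁆ ≠ 1 := by
    by_contra hne
    push Not at hne
    exact huA (hrad u hu fun y hy => commutatorElement_eq_one_iff_mul_comm.1 (hne y hy))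
  haveI := h.cyc
  set c : A := ⟨⁅u, v⁆, h.comm u (hMN hu) v (hMN hv)⟩ with hcdef
  have hc1 : c ≠ 1 := fun e => huv (congrArg Subtype.val e)
  have hcr : c ^ r = 1 := Subtype.ext (h.comm_pow (hMN hu) (hMN hv))
  have hco : orderOf c = r := by
    haveI := Fact.mk h.prime
    exact orderOf_eq_prime hcr hc1
  let θ : M →* A × A :=
    ((h.ad u (hMN hu)).comp (Subgroup.inclusion hMN)).prod
      ((h.ad v (hMN hv)).comp (Subgroup.inclusion hMN))
  have hθu : θ ⟨u, hu⟩ = (1, c) := Prod.ext (Subtype.ext (commutatorElement_self u)) rfl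
  have hθv : θ ⟨v, hv⟩ = (c⁻¹, 1) := Prod.ext
    (Subtype.ext (commutatorElement_inv u v).symm) (Subtype.ext (commutatorElement_self v))
  have hrange : θ.range = (Subgroup.zpowers c).prod (Subgroup.zpowers c) := by
    refine le_antisymm ?_ ?_
    · rintro _ ⟨y, rfl⟩
      exact ⟨mem_zpowers_of_pow_eq_one h.prime hcr hc1
          (Subtype.ext (h.comm_pow (hMN y.2) (hMN hu))),
        mem_zpowers_of_pow_eq_one h.prime hcr hc1 (Subtype.ext (h.comm_pow (hMN y.2) (hMN hv)))⟩
    · rintro ⟨a, b⟩ ⟨ha, hb⟩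
      obtain ⟨i, rfl⟩ := Subgroup.mem_zpowers_iff.1 ha
      obtain ⟨j, rfl⟩ := Subgroup.mem_zpowers_iff.1 hb
      refine ⟨⟨v, hv⟩ ^ (-i) * ⟨u, hu⟩ ^ j, ?_⟩
      rw [map_mul, map_zpow, map_zpow, hθu, hθv]
      simp
  set M₂ : Subgroup G := M ⊓ Subgroup.centralizer {u, v} with hM₂
  have hmem : ∀ y, y ∈ M₂ ↔ y ∈ M ∧ ⁅y, u⁆ = 1 ∧ ⁅y, v⁆ = 1 := by
    intro y
    rw [hM₂, Subgroup.mem_inf, Subgroup.mem_centralizer_iff,
      commutatorElement_eq_one_iff_mul_comm, commutatorElement_eq_one_iff_mul_comm]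
    constructor
    · rintro ⟨h1, h2⟩
      exact ⟨h1, (h2 u (Or.inl rfl)).symm, (h2 v (Or.inr rfl)).symm⟩
    · rintro ⟨h1, h2, h3⟩
      refine ⟨h1, ?_⟩
      rintro w (rfl | rfl)
      · exact h2.symm
      · exact h3.symm
  have hker : θ.ker = M₂.subgroupOf M := by
    ext y
    rw [MonoidHom.mem_ker, Subgroup.mem_subgroupOf, hmem]
    constructor
    · intro hy
      exact ⟨y.2, congrArg (fun z : A × A => (z.1 : G)) hy, congrArg (fun z : A × A => (z.2 : G)) hy⟩
    · rintro ⟨-, h1, h2⟩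
      exact Prod.ext (Subtype.ext h1) (Subtype.ext h2)
  have hidx : M₂.relIndex M = r * r := by
    rw [Subgroup.relIndex, ← hker, Subgroup.index_ker, hrange,
      Nat.card_congr (Subgroup.prodEquiv _ _).toEquiv, Nat.card_prod, Nat.card_zpowers, hco]
  have hAM₂ : A ≤ M₂ := fun a ha => (hmem a).2
    ⟨hAM ha, h.comm_eq_one_of_mem ha (hMN hu), h.comm_eq_one_of_mem ha (hMN hv)⟩
  have hlt : M₂ < M := by
    refine lt_of_le_of_ne inf_le_left fun e => ?_
    rw [e, Subgroup.relIndex_self] at hidx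
    have := h.prime.two_le
    nlinarith
  obtain ⟨d, hd⟩ := ih M₂ hlt hAM₂ (inf_le_left.trans hMN) (fun z hz hzc => by
    refine hrad z ((hmem z).1 hz).1 fun y hy => ?_
    obtain ⟨hzM, hzu, hzv⟩ := (hmem z).1 hz
    rw [commutatorElement_eq_one_iff_mul_comm] at hzu hzv
    -- split off the two generators
    have hθy : θ ⟨y, hy⟩ ∈ θ.range := ⟨_, rfl⟩
    rw [hrange] at hθy
    obtain ⟨hy1, hy2⟩ := hθy
    obtain ⟨i, hi⟩ := Subgroup.mem_zpowers_iff.1 hy1
    obtain ⟨j, hj⟩ := Subgroup.mem_zpowers_iff.1 hy2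
    set w : M := ⟨v, hv⟩ ^ (-i) * ⟨u, hu⟩ ^ j with hwdef
    have hw : θ (w⁻¹ * ⟨y, hy⟩) = 1 := by
      have hθw : θ w = θ ⟨y, hy⟩ := by
        rw [hwdef, map_mul, map_zpow, map_zpow, hθu, hθv]
        refine Prod.ext ?_ ?_
        · rw [← hi]; simp
        · rw [← hj]; simp
      rw [map_mul, map_inv, hθw, inv_mul_cancel]
    rw [← MonoidHom.mem_ker, hker, Subgroup.mem_subgroupOf] at hw
    have h1 : z * ((w⁻¹ * ⟨y, hy⟩ : M) : G) = ((w⁻¹ * ⟨y, hy⟩ : M) : G) * z := hzc _ hw
    have h2 : Commute z (w : G) := by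
      rw [hwdef, Subgroup.coe_mul, SubgroupClass.coe_zpow, SubgroupClass.coe_zpow]
      exact (Commute.zpow_right hzv _).mul_right (Commute.zpow_right hzu _)
    have h3 := h2.mul_right h1
    rwa [← Subgroup.coe_mul, mul_inv_cancel_left] at h3)
  exact ⟨d + 1, by
    rw [← Subgroup.relIndex_mul_relIndex A M₂ M hAM₂ hlt.le, hd, hidx, mul_add, pow_add]; ring⟩

/-- a commutative layer is at most half of the whole -/
theorem Sympl.sq_le [Finite G] (h : Sympl A N r) {K : Type*} [Field K] (ψ : A →* K)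
    (hψ : Function.Injective ψ) {M : Subgroup G} (hAM : A ≤ M) (hMN : M ≤ N)
    (hMc : ∀ x ∈ M, ∀ y ∈ M, x * y = y * x) :
    A.relIndex M * A.relIndex M ≤ A.relIndex N := by
  classical
  set M' : Subgroup G := N ⊓ Subgroup.centralizer (M : Set G)
  have hMM' : M ≤ M' := fun x hx => ⟨hMN hx, Subgroup.mem_centralizer_iff.2 fun y hy => hMc y hy x hx⟩
  have hAM' : A ≤ M' := hAM.trans hMM'
  have key : A.relIndex M ≤ M'.relIndex N := by
    set ι := M ⧸ A.subgroupOf M
    set Q := N ⧸ M'.subgroupOf N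
    let χ : ι → (N →* K) := fun i => ψ.comp (h.ad (i.out : G) (hMN i.out.2))
    have hχ : Function.Injective χ := by
      intro i j e
      rw [← i.out_eq, ← j.out_eq]
      refine QuotientGroup.eq.2 (h.radical _ (N.mul_mem (N.inv_mem (hMN i.out.2)) (hMN j.out.2))
        fun x hx => ?_)
      have e1 : h.ad _ (hMN i.out.2) ⟨x, hx⟩ = h.ad _ (hMN j.out.2) ⟨x, hx⟩ :=
        hψ (DFunLike.congr_fun e ⟨x, hx⟩)
      have e2 : x * (i.out : G) * x⁻¹ * (i.out : G)⁻¹ = x * (j.out : G) * x⁻¹ * (j.out : G)⁻¹ :=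
        congrArg Subtype.val e1
      set a := x * (i.out : G) * x⁻¹ * (i.out : G)⁻¹ with ha
      have haA : a ∈ A := h.comm x hx _ (hMN i.out.2)
      have hi' : x * (i.out : G) * x⁻¹ = a * (i.out : G) := by rw [ha, inv_mul_cancel_right]
      have hj' : x * (j.out : G) * x⁻¹ = a * (j.out : G) := by rw [e2, inv_mul_cancel_right]
      have h4 : x * ((i.out : G)⁻¹ * (j.out : G)) * x⁻¹ = (i.out : G)⁻¹ * (j.out : G) := by
        calc x * ((i.out : G)⁻¹ * (j.out : G)) * x⁻¹
            = (x * (i.out : G) * x⁻¹)⁻¹ * (x * (j.out : G) * x⁻¹) := by group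
          _ = (a * (i.out : G))⁻¹ * (a * (j.out : G)) := by rw [hi', hj']
          _ = _ := by group
      exact (mul_inv_eq_iff_eq_mul.1 h4).symm
    have hconst : ∀ (i : ι) (q : N), χ i (Quotient.mk'' q : Q).out = χ i q := by
      intro i q
      obtain ⟨⟨m, hm⟩, hm'⟩ := QuotientGroup.mk_out_eq_mul (M'.subgroupOf N) q
      rw [show (Quotient.mk'' q : Q).out = q * m from hm', map_mul,
        show χ i m = 1 from ?_, mul_one]
      show ψ (h.ad (i.out : G) _ m) = 1
      rw [show h.ad (i.out : G) (hMN i.out.2) m = 1 from Subtype.ext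
        (commutatorElement_eq_one_iff_mul_comm.2
          (Subgroup.mem_centralizer_iff.1 (Subgroup.mem_subgroupOf.1 hm).2 _ i.out.2).symm),
        map_one]
    let L : (Q → K) →ₗ[K] (N → K) := LinearMap.funLeft K K (fun q : N => (Quotient.mk'' q : Q))
    have hind : LinearIndependent K (fun i : ι => fun q : Q => χ i q.out) := by
      refine LinearIndependent.of_comp L ?_
      have : (L ∘ fun i : ι => fun q : Q => χ i q.out) = fun i => (χ i : N → K) := by
        funext i q
        exact hconst i q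
      rw [this]
      exact (linearIndependent_monoidHom N K).comp χ hχ
    have := Fintype.ofFinite ι
    have := Fintype.ofFinite Q
    have h1 := hind.fintype_card_le_finrank
    rw [Module.finrank_pi, ← Nat.card_eq_fintype_card, ← Nat.card_eq_fintype_card] at h1
    exact h1
  calc A.relIndex M * A.relIndex M ≤ A.relIndex M' * M'.relIndex N :=
        Nat.mul_le_mul (Subgroup.relIndex_le_of_le_right hMM' (A.subgroupOf M').index_ne_zero_of_finite) key
    _ = A.relIndex N := Subgroup.relIndex_mul_relIndex A M' N hAM' inf_le_left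

/-- a group acting freely on the nonidentity elements of a subgroup -/
theorem card_dvd_of_free {Q : Type*} [Group Q] [Finite Q] (L M : Subgroup Q)
    (hLM : L ≤ Subgroup.normalizer (M : Set Q))
    (hfree : ∀ l ∈ L, l ≠ 1 → ∀ q ∈ M, l * q * l⁻¹ = q → q = 1) :
    Nat.card L ∣ Nat.card M - 1 := by
  classical
  letI : MulAction L {q : M // q ≠ 1} :=
    { smul := fun l q => ⟨⟨(l : Q) * ((q : M) : Q) * (l : Q)⁻¹,
          (Subgroup.mem_normalizer_iff.1 (hLM l.2) _).1 (q : M).2⟩, fun e => q.2 (Subtype.ext (by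
            have := congrArg Subtype.val e
            simpa using this))⟩
      one_smul := fun q => Subtype.ext (Subtype.ext (by
        show ((1 : L) : Q) * ((q : M) : Q) * ((1 : L) : Q)⁻¹ = ((q : M) : Q)
        simp))
      mul_smul := fun a b q => Subtype.ext (Subtype.ext (by
        show ((a * b : L) : Q) * ((q : M) : Q) * ((a * b : L) : Q)⁻¹ =
          (a : Q) * ((b : Q) * ((q : M) : Q) * (b : Q)⁻¹) * (a : Q)⁻¹
        rw [Subgroup.coe_mul]
        group)) }
  have hstab : ∀ q : {q : M // q ≠ 1}, MulAction.stabilizer L q = ⊥ := by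
    intro q
    rw [eq_bot_iff]
    intro l hl
    rw [Subgroup.mem_bot]
    by_contra hne
    exact q.2 (Subtype.ext (hfree l l.2 (fun e => hne (Subtype.ext e)) _ (q : M).2
      (congrArg (fun z : {q : M // q ≠ 1} => ((z : M) : Q)) hl)))
  have h := Nat.card_congr (MulAction.selfEquivOrbitsQuotientProd hstab)
  rw [Nat.card_prod] at h
  have hc : Nat.card {q : M // q ≠ 1} = Nat.card M - 1 := by
    have := Fintype.ofFinite M
    rw [Nat.card_eq_fintype_card, Nat.card_eq_fintype_card, Fintype.card_subtype_compl,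
      Fintype.card_subtype_eq]
  exact Dvd.intro_left _ (h.symm.trans hc)

end Cfsg.Agent.Perm.TransLinear
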