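import Mathlib
import Cfsg.Agent.Lib.Perm.TransLinear.Basic
import Cfsg.Agent.Lib.Perm.TransLinear.Symplectic

/-!
# A class two layer over an abelian normal subgroup spans a large part of the endomorphism ring
-/

set_option autoImplicit false

namespace Cfsg.Agent.Perm.TransLinear

open scoped commutatorElement
open NearField (Inv Irr endH alg endH_apply alg_mem alg_comm endH_injective finite_end finite_H toAlg toAlg_injective)

/-- operators that are eigenvectors for separating characters are linearly independent -/
theorem linearIndependent_of_char {K E ι τ : Type*} [Field K] [Ring E] [Algebra K E]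
    (f : ι → E) (T : τ → E) (hT : ∀ t, IsUnit (T t)) (hf : ∀ i, f i ≠ 0) (χ : τ → ι → K)
    (hrel : ∀ t i, T t * f i = χ t i • (f i * T t))
    (hsep : ∀ i j, i ≠ j → ∃ t, χ t i ≠ χ t j) : LinearIndependent K f := by
  classical
  rw [linearIndependent_iff']
  intro s
  induction s using Finset.strongInduction with
  | H s ih => ?_
  intro g hg i hi
  by_cases hone : ∀ j ∈ s, j = i
  · rw [Finset.sum_eq_single_of_mem i hi fun j hj hne => absurd (hone j hj) hne] at hg
    exact (smul_eq_zero.1 hg).resolve_right (hf i)
  · push Not at hone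
    obtain ⟨j, hj, hji⟩ := hone
    obtain ⟨t, ht⟩ := hsep i j hji.symm
    have h1 : T t * (∑ l ∈ s, g l • f l) - χ t j • ((∑ l ∈ s, g l • f l) * T t) = 0 := by
      rw [hg]; simp
    rw [Finset.mul_sum, Finset.sum_mul, Finset.smul_sum, ← Finset.sum_sub_distrib] at h1
    have h2 : (∑ l ∈ s, (g l * (χ t l - χ t j)) • f l) * T t = 0 := by
      rw [Finset.sum_mul, ← h1]
      refine Finset.sum_congr rfl fun l _ => ?_
      rw [mul_smul_comm, smul_mul_assoc, smul_mul_assoc, hrel, smul_smul, smul_smul, ← sub_smul]
      ring_nf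
    rw [(hT t).mul_left_eq_zero, ← Finset.add_sum_erase _ _ hj, sub_self, mul_zero, zero_smul,
      zero_add] at h2
    have h3 := ih _ (Finset.erase_ssubset hj) _ h2 i (Finset.mem_erase.2 ⟨hji.symm, hi⟩)
    exact (mul_eq_zero.1 h3).resolve_right (sub_ne_zero.2 ht)

/-- separated eigen-operators fill at most the endomorphism ring; if they fill it, what commutes
with them is scalar -/
theorem endo_bound {K W ι τ : Type*} [Field K] [AddCommGroup W] [Module K W] [Module.Finite K W]
    [Finite ι] [Nonempty ι] (f : ι → Module.End K W) (T : τ → Module.End K W)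
    (hT : ∀ t, IsUnit (T t)) (hf : ∀ i, f i ≠ 0) (χ : τ → ι → K)
    (hrel : ∀ t i, ∀ v, T t (f i v) = χ t i • f i (T t v))
    (hsep : ∀ i j, i ≠ j → ∃ t, χ t i ≠ χ t j) :
    Nat.card ι ≤ Module.finrank K W * Module.finrank K W ∧
      (Module.finrank K W * Module.finrank K W ≤ Nat.card ι → ∀ z : Module.End K W,
        (∀ i v, z (f i v) = f i (z v)) → ∃ c : K, ∀ v, z v = c • v) := by
  classical
  have := Fintype.ofFinite ι
  have hind : LinearIndependent K f := linearIndependent_of_char f T hT hf χ
    (fun t i => LinearMap.ext fun v => hrel t i v) hsep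
  have hle := hind.fintype_card_le_finrank
  rw [Module.finrank_linearMap, ← Nat.card_eq_fintype_card] at hle
  refine ⟨hle, fun hge z hz => ?_⟩
  have hcard : Fintype.card ι = Module.finrank K (Module.End K W) := by
    rw [Module.finrank_linearMap, ← Nat.card_eq_fintype_card]
    exact le_antisymm hle hge
  have hspan := hind.span_eq_top_of_card_eq_finrank hcard
  have hcomm : ∀ g : Module.End K W, z * g = g * z := by
    intro g
    have hg : g ∈ Submodule.span K (Set.range f) := by rw [hspan]; exact Submodule.mem_top
    induction hg using Submodule.span_induction with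
    | mem x hx =>
      obtain ⟨i, rfl⟩ := hx
      exact LinearMap.ext fun v => hz i v
    | zero => simp
    | add x y _ _ hx hy => rw [mul_add, add_mul, hx, hy]
    | smul c x _ hx => rw [mul_smul_comm, smul_mul_assoc, hx]
  have hcen : z ∈ Subalgebra.center K (Module.End K W) :=
    Subalgebra.mem_center_iff.2 fun g => (hcomm g).symm
  rw [Algebra.IsCentral.center_eq_bot K (Module.End K W), Algebra.mem_bot] at hcen
  obtain ⟨c, hc⟩ := hcen
  exact ⟨c, fun v => by rw [← hc, Module.algebraMap_end_apply]⟩

variable {p : ℕ} [hp : Fact p.Prime] {V : Type*} [AddCommGroup V] [Module (ZMod p) V]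
variable {H : Subgroup (V ≃ₗ[ZMod p] V)} {A N : Subgroup H}

/-- what centralizes `A` commutes with its algebra -/
theorem endH_comm_alg {z : H} (hz : z ∈ Subgroup.centralizer (A : Set H))
    {t : Module.End (ZMod p) V} (ht : t ∈ alg A) : endH H z * t = t * endH H z := by
  have : t ∈ Subalgebra.centralizer (ZMod p) {endH H z} := by
    refine Algebra.adjoin_le ?_ ht
    rintro _ ⟨a, ha, rfl⟩
    rw [SetLike.mem_coe, Subalgebra.mem_centralizer_iff]
    rintro g rfl
    rw [← map_mul, ← map_mul, Subgroup.mem_centralizer_iff.1 hz a ha]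
  exact Subalgebra.mem_centralizer_iff (ZMod p) |>.1 this _ rfl

theorem Sympl.le_centralizer {r : ℕ} (hs : Sympl A N r) : N ≤ Subgroup.centralizer (A : Set H) :=
  fun y hy => Subgroup.mem_centralizer_iff.2 fun a ha => hs.cen a ha y hy

/-- the cosets of a nondegenerate layer are independent operators over the field of `A` -/
theorem layer_bound [Finite V] [Nontrivial V] (hT : Trans H) (hAn : A.Normal)
    (hAc : IsMulCommutative A) {r : ℕ} (hs : Sympl A N r) {k m : ℕ} (hk : 0 < k)
    (hK : Nat.card (alg A) = p ^ k) (hV : Nat.card V = p ^ (k * m)) :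
    A.relIndex N ≤ m * m ∧
      (m * m ≤ A.relIndex N → ∀ z ∈ Subgroup.centralizer (A : Set H),
        (∀ y ∈ N, z * y = y * z) → endH H z ∈ alg A) := by
  classical
  haveI := finite_H (H := H)
  haveI := finite_end (p := p) (V := V)
  letI : CommRing (alg A) :=
    { (inferInstance : Ring (alg A)) with
      mul_comm := fun x y => Subtype.ext (alg_comm hAc x.2 y.2) }
  haveI : IsDomain (alg A) := alg_isDomain hT hAn hAc
  have := Fintype.ofFinite (alg A)
  letI : Field (alg A) := Fintype.fieldOfDomain (alg A)
  haveI : Module.Finite (alg A) V := Module.Finite.of_finite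
  have hm : Module.finrank (alg A) V = m := by
    have h := Module.natCard_eq_pow_finrank (K := alg A) (V := V)
    rw [hV, hK, ← pow_mul] at h
    exact (Nat.eq_of_mul_eq_mul_left hk (Nat.pow_right_injective hp.out.two_le h)).symm
  let lin : Subgroup.centralizer (A : Set H) →* Module.End (alg A) V :=
    { toFun := fun z =>
        { toFun := fun v => endH H (z : H) v
          map_add' := fun v w => map_add _ v w
          map_smul' := fun t v => by
            show endH H (z : H) ((t : Module.End (ZMod p) V) v)
              = (t : Module.End (ZMod p) V) (endH H (z : H) v)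
            rw [← Module.End.mul_apply, endH_comm_alg z.2 t.2, Module.End.mul_apply] }
      map_one' := LinearMap.ext fun v => by
        show endH H ((1 : Subgroup.centralizer (A : Set H)) : H) v = v
        rw [Subgroup.coe_one, map_one, Module.End.one_apply]
      map_mul' := fun a b => LinearMap.ext fun v => by
        show endH H ((a * b : Subgroup.centralizer (A : Set H)) : H) v = endH H (a : H) (endH H (b : H) v)
        rw [Subgroup.coe_mul, map_mul, Module.End.mul_apply] }
  let inc : N →* Subgroup.centralizer (A : Set H) := Subgroup.inclusion hs.le_centralizer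
  set ι := N ⧸ A.subgroupOf N
  let f : ι → Module.End (alg A) V := fun i => lin (inc i.out)
  let T : N → Module.End (alg A) V := fun t => lin (inc t)
  let χ : N → ι → alg A := fun t i => toAlg A ⟨⁅(t : H), (i.out : H)⁆, hs.comm t t.2 _ i.out.2⟩
  have hunit : ∀ z, IsUnit (lin z) := fun z => (Group.isUnit z).map lin
  haveI : Nonempty ι := ⟨((1 : N) : ι)⟩
  have hrel : ∀ t i, ∀ v, T t (f i v) = χ t i • f i (T t v) := by
    intro t i v
    show endH H (t : H) (endH H (i.out : H) v)
      = endH H ⁅(t : H), (i.out : H)⁆ (endH H (i.out : H) (endH H (t : H) v))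
    simp only [← Module.End.mul_apply, ← map_mul]
    congr 2
    rw [commutatorElement_def]
    group
  have hsep : ∀ i j, i ≠ j → ∃ t, χ t i ≠ χ t j := by
    intro i j hij
    by_contra hne
    push Not at hne
    apply hij
    rw [← i.out_eq, ← j.out_eq]
    refine QuotientGroup.eq.2 (hs.radical _ (N.mul_mem (N.inv_mem i.out.2) j.out.2) fun x hx => ?_)
    have e1 : ⁅x, (i.out : H)⁆ = ⁅x, (j.out : H)⁆ :=
      congrArg Subtype.val (toAlg_injective (hne ⟨x, hx⟩))
    have haA : ⁅x, (i.out : H)⁆ ∈ A := hs.comm x hx _ i.out.2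
    have hi' : x * (i.out : H) * x⁻¹ = ⁅x, (i.out : H)⁆ * (i.out : H) := by
      rw [commutatorElement_def, inv_mul_cancel_right]
    have hj' : x * (j.out : H) * x⁻¹ = ⁅x, (i.out : H)⁆ * (j.out : H) := by
      rw [e1, commutatorElement_def, inv_mul_cancel_right]
    have h4 : x * ((i.out : H)⁻¹ * (j.out : H)) * x⁻¹ = (i.out : H)⁻¹ * (j.out : H) := by
      calc x * ((i.out : H)⁻¹ * (j.out : H)) * x⁻¹
          = (x * (i.out : H) * x⁻¹)⁻¹ * (x * (j.out : H) * x⁻¹) := by group
        _ = (⁅x, (i.out : H)⁆ * (i.out : H))⁻¹ * (⁅x, (i.out : H)⁆ * (j.out : H)) := by rw [hi', hj']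
        _ = _ := by group
    exact (mul_inv_eq_iff_eq_mul.1 h4).symm
  obtain ⟨hle, hscal⟩ := endo_bound f T (fun t => hunit _) (fun i => (hunit _).ne_zero) χ hrel hsep
  rw [hm] at hle hscal
  refine ⟨hle, fun hge z hz hzN => ?_⟩
  obtain ⟨c, hc⟩ := hscal hge (lin ⟨z, hz⟩) fun i v => by
    show endH H z (endH H (i.out : H) v) = endH H (i.out : H) (endH H z v)
    rw [← Module.End.mul_apply, ← map_mul, hzN _ i.out.2, map_mul, Module.End.mul_apply]
  have : endH H z = (c : Module.End (ZMod p) V) := LinearMap.ext fun v => hc v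
  rw [this]
  exact c.2

end Cfsg.Agent.Perm.TransLinear
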