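import Mathlib
import Cfsg.Agent.Lib.Perm.TransLinear.Layer

/-!
# The Galois quotient, the class two layer, and orbit counts in a transitive linear group
-/

set_option autoImplicit false

namespace Cfsg.Agent.Perm.TransLinear

open scoped commutatorElement
open NearField (Inv Irr endH alg endH_apply alg_mem alg_comm endH_injective finite_end finite_H toAlg toAlg_injective)

variable {p : ℕ} [hp : Fact p.Prime] {V : Type*} [AddCommGroup V] [Module (ZMod p) V]
variable {H : Subgroup (V ≃ₗ[ZMod p] V)} {A : Subgroup H}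

theorem isCyclic_of_comm [Finite V] [Nontrivial V] (hT : Trans H) (hAn : A.Normal)
    (hAc : IsMulCommutative A) : IsCyclic A := by
  haveI := finite_H (H := H)
  letI : CommRing (alg A) :=
    { (inferInstance : Ring (alg A)) with
      mul_comm := fun x y => Subtype.ext (alg_comm hAc x.2 y.2) }
  haveI : IsDomain (alg A) := alg_isDomain hT hAn hAc
  exact isCyclic_of_subgroup_isDomain (toAlg A) toAlg_injective

/-- the order of `A` divides that of the multiplicative group of its field -/
theorem card_dvd_sub_one [Finite V] [Nontrivial V] (hT : Trans H) (hAn : A.Normal)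
    (hAc : IsMulCommutative A) {k : ℕ} (hK : Nat.card (alg A) = p ^ k) :
    Nat.card A ∣ p ^ k - 1 := by
  classical
  haveI := finite_end (p := p) (V := V)
  letI : CommRing (alg A) :=
    { (inferInstance : Ring (alg A)) with
      mul_comm := fun x y => Subtype.ext (alg_comm hAc x.2 y.2) }
  haveI : IsDomain (alg A) := alg_isDomain hT hAn hAc
  have := Fintype.ofFinite (alg A)
  letI : Field (alg A) := Fintype.fieldOfDomain (alg A)
  rw [← hK, ← Nat.card_units]
  exact Subgroup.card_dvd_of_injective (toAlg A).toHomUnits fun a b e =>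
    toAlg_injective (congrArg Units.val e)

/-- the group acts on the field of `A` by Galois automorphisms, with kernel the centralizer -/
theorem galois_index [Finite V] [Nontrivial V] (hT : Trans H) (hAn : A.Normal)
    (hAc : IsMulCommutative A) {k : ℕ} (hK : Nat.card (alg A) = p ^ k) :
    (Subgroup.centralizer (A : Set H)).index ∣ k := by
  classical
  haveI := finite_end (p := p) (V := V)
  haveI := finite_H (H := H)
  letI : CommRing (alg A) :=
    { (inferInstance : Ring (alg A)) with
      mul_comm := fun x y => Subtype.ext (alg_comm hAc x.2 y.2) }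
  haveI : IsDomain (alg A) := alg_isDomain hT hAn hAc
  have := Fintype.ofFinite (alg A)
  letI : Field (alg A) := Fintype.fieldOfDomain (alg A)
  have hmem : ∀ (h : H) (r : Module.End (ZMod p) V), r ∈ alg A →
      endH H h * r * endH H h⁻¹ ∈ alg A := by
    intro h r hr
    induction hr using Algebra.adjoin_induction with
    | mem x hx =>
      obtain ⟨a, ha, rfl⟩ := hx
      rw [← map_mul, ← map_mul]
      exact alg_mem _ (hAn.conj_mem a ha h)
    | algebraMap c =>
      rw [← Algebra.commutes, mul_assoc, ← map_mul, mul_inv_cancel, map_one, mul_one]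
      exact (alg A).algebraMap_mem c
    | add x y _ _ hx hy => rw [mul_add, add_mul]; exact add_mem hx hy
    | mul x y _ _ hx hy =>
      convert mul_mem hx hy using 1
      have e : endH H h⁻¹ * endH H h = 1 := by rw [← map_mul, inv_mul_cancel, map_one]
      simp only [mul_assoc]
      rw [← mul_assoc (endH H h⁻¹) (endH H h), e, one_mul]
  let φ : H → (alg A →ₐ[ZMod p] alg A) := fun h =>
    { toFun := fun r => ⟨_, hmem h r r.2⟩
      map_one' := Subtype.ext (by simp [← map_mul])
      map_zero' := Subtype.ext (by simp)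
      map_add' := fun r s => Subtype.ext (by simp [mul_add, add_mul])
      map_mul' := fun r s => Subtype.ext (by
        have e : endH H h⁻¹ * endH H h = 1 := by rw [← map_mul, inv_mul_cancel, map_one]
        simp only [Subalgebra.coe_mul, mul_assoc]
        rw [← mul_assoc (endH H h⁻¹) (endH H h), e, one_mul])
      commutes' := fun c => Subtype.ext (by
        simp only [Subalgebra.coe_algebraMap]
        rw [← Algebra.commutes, mul_assoc, ← map_mul, mul_inv_cancel, map_one, mul_one]) }
  let ψ : H →* (alg A ≃ₐ[ZMod p] alg A) := MonoidHom.mk'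
    (fun h => AlgEquiv.ofBijective (φ h) (Finite.injective_iff_bijective.1 (φ h).toRingHom.injective))
    (fun a b => AlgEquiv.ext fun r => Subtype.ext (by
      show endH H (a * b) * (r : Module.End (ZMod p) V) * endH H (a * b)⁻¹
        = endH H a * (endH H b * (r : Module.End (ZMod p) V) * endH H b⁻¹) * endH H a⁻¹
      simp only [mul_inv_rev, map_mul, mul_assoc]))
  have hker : ψ.ker = Subgroup.centralizer (A : Set H) := by
    ext g
    rw [MonoidHom.mem_ker, Subgroup.mem_centralizer_iff]
    constructor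
    · intro hg a ha
      have e1 : endH H g * endH H a * endH H g⁻¹ = endH H a := congrArg Subtype.val
        (DFunLike.congr_fun hg (⟨endH H a, alg_mem a ha⟩ : alg A))
      rw [← map_mul, ← map_mul] at e1
      exact (mul_inv_eq_iff_eq_mul.1 (endH_injective e1)).symm
    · intro hg
      refine AlgEquiv.ext fun r => Subtype.ext ?_
      show endH H g * (r : Module.End (ZMod p) V) * endH H g⁻¹ = (r : Module.End (ZMod p) V)
      rw [endH_comm_alg (Subgroup.mem_centralizer_iff.2 hg) r.2, mul_assoc, ← map_mul,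
        mul_inv_cancel, map_one, mul_one]
  have hfr : Module.finrank (ZMod p) (alg A) = k := by
    have h := Module.natCard_eq_pow_finrank (K := ZMod p) (V := alg A)
    rw [hK, Nat.card_zmod] at h
    exact (Nat.pow_right_injective hp.out.two_le h).symm
  rw [← hker, Subgroup.index_ker, ← hfr, ← IsGalois.card_aut_eq_finrank (ZMod p) (alg A)]
  exact Subgroup.card_subgroup_dvd_card _

/-- a class two layer above a maximal abelian normal subgroup -/
theorem exists_layer [Finite V] [Nontrivial V] (hT : Trans H) (hsolv : Group.IsSolvable H)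
    (hAn : A.Normal) (hAc : IsMulCommutative A)
    (hAmax : ∀ B : Subgroup H, B.Normal → IsMulCommutative B → A ≤ B → B = A)
    (hC : Subgroup.centralizer (A : Set H) ≠ A) :
    ∃ (N : Subgroup H) (r : ℕ), N.Normal ∧ ¬ N ≤ A ∧ Sympl A N r ∧ r ∣ Nat.card A := by
  classical
  haveI := finite_H (H := H)
  haveI := hsolv
  haveI := hAn
  set C := Subgroup.centralizer (A : Set H)
  have hAC : A ≤ C := Subgroup.le_centralizer_iff_isMulCommutative.2 hAc
  set π : H →* H ⧸ A := QuotientGroup.mk' A
  have hπ : Function.Surjective π := QuotientGroup.mk'_surjective A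
  have hkerπ : π.ker = A := QuotientGroup.ker_mk' A
  haveI : Group.IsSolvable (H ⧸ A) := Group.isSolvable_of_surjective (f := π) hπ
  have hCne : C.map π ≠ ⊥ := by
    intro e
    rw [Subgroup.map_eq_bot_iff, hkerπ] at e
    exact hC (le_antisymm e hAC)
  haveI : (C.map π).Normal := Subgroup.Normal.map inferInstance π hπ
  obtain ⟨M, ⟨hMn, hMC, hMne⟩, hMmin'⟩ := wellFounded_lt.has_min
    {M : Subgroup (H ⧸ A) | M.Normal ∧ M ≤ C.map π ∧ M ≠ ⊥} ⟨_, inferInstance, le_rfl, hCne⟩
  have hMmin : ∀ M' : Subgroup (H ⧸ A), M'.Normal → M' ≤ M → M' ≠ ⊥ → M' = M := fun M' h1 h2 h3 =>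
    h2.eq_or_lt.resolve_right fun h => hMmin' M' ⟨h1, h2.trans hMC, h3⟩ h
  haveI := hMn
  have hMc : ∀ a ∈ M, ∀ b ∈ M, a * b = b * a := by
    have hlt : ⁅M, M⁆ < M := Group.IsSolvable.commutator_lt_of_ne_bot hMne
    have h1 : ⁅M, M⁆ = ⊥ := by
      by_contra h
      exact hlt.ne (hMmin _ inferInstance hlt.le h)
    intro a ha b hb
    have h2 := Subgroup.commutator_mem_commutator ha hb
    rw [h1, Subgroup.mem_bot] at h2
    exact commutatorElement_eq_one_iff_mul_comm.1 h2
  haveI : Nontrivial M := (Subgroup.nontrivial_iff_ne_bot M).2 hMne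
  obtain ⟨r, hr, hrd⟩ := Nat.exists_prime_and_dvd (Finite.one_lt_card (α := M)).ne'
  let Ω : Subgroup (H ⧸ A) :=
    { carrier := {q | q ∈ M ∧ q ^ r = 1}
      one_mem' := ⟨M.one_mem, one_pow r⟩
      mul_mem' := fun {a b} ha hb => ⟨M.mul_mem ha.1 hb.1, by
        rw [(Commute.mul_pow (hMc a ha.1 b hb.1)), ha.2, hb.2, one_mul]⟩
      inv_mem' := fun {a} ha => ⟨M.inv_mem ha.1, by rw [inv_pow, ha.2, inv_one]⟩ }
  have hΩ : Ω = M := by
    refine hMmin Ω ⟨fun q hq g => ⟨hMn.conj_mem q hq.1 g, by rw [conj_pow, hq.2, mul_one, mul_inv_cancel]⟩⟩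
      (fun q hq => hq.1) ?_
    obtain ⟨q, hq⟩ := @exists_prime_orderOf_dvd_card' M _ _ r ⟨hr⟩ hrd
    intro e
    have hmem : (q : H ⧸ A) ∈ Ω := ⟨q.2, by
      rw [← SubgroupClass.coe_pow, ← hq, pow_orderOf_eq_one, Subgroup.coe_one]⟩
    rw [e, Subgroup.mem_bot, ← Subgroup.coe_one M, Subtype.coe_inj] at hmem
    rw [hmem, orderOf_one] at hq
    exact hr.ne_one hq.symm
  set N := M.comap π
  have hNn : N.Normal := hMn.comap π
  haveI := hNn
  have hAN : A ≤ N := fun a ha => by
    rw [Subgroup.mem_comap, (MonoidHom.mem_ker (f := π)).1 (hkerπ.symm ▸ ha)]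
    exact M.one_mem
  have hNC : N ≤ C := by
    have := Subgroup.comap_mono (f := π) hMC
    rwa [Subgroup.comap_map_eq, hkerπ, sup_eq_left.2 hAC] at this
  have hNA : ¬ N ≤ A := by
    intro h
    apply hMne
    rw [← Subgroup.map_comap_eq_self_of_surjective hπ M, Subgroup.map_eq_bot_iff, hkerπ]
    exact h
  have hcomm : ∀ x ∈ N, ∀ y ∈ N, ⁅x, y⁆ ∈ A := fun x hx y hy => by
    rw [← hkerπ, MonoidHom.mem_ker, map_commutatorElement]
    exact commutatorElement_eq_one_iff_mul_comm.2 (hMc _ hx _ hy)
  have hcen : ∀ a ∈ A, ∀ y ∈ N, a * y = y * a := fun a ha y hy =>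
    Subgroup.mem_centralizer_iff.1 (hNC hy) a ha
  have hs : Sympl A N r :=
    { prime := hr
      le := hAN
      cyc := isCyclic_of_comm hT hAn hAc
      cen := hcen
      comm := hcomm
      pow := fun x hx => by
        rw [← hkerπ, MonoidHom.mem_ker, map_pow]
        have h : π x ∈ Ω := hΩ.symm ▸ (hx : π x ∈ M)
        exact h.2
      radical := fun z hz hzc => by
        haveI : (Subgroup.centralizer (N : Set H)).Normal := inferInstance
        have hB : N ⊓ Subgroup.centralizer (N : Set H) = A := by
          refine hAmax _ inferInstance ⟨⟨fun a b => Subtype.ext ?_⟩⟩ fun a ha => ⟨hAN ha, ?_⟩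
          · exact (Subgroup.mem_centralizer_iff.1 a.2.2 b b.2.1).symm
          · exact Subgroup.mem_centralizer_iff.2 fun y hy => (hcen a ha y hy).symm
        rw [← hB]
        exact ⟨hz, Subgroup.mem_centralizer_iff.2 fun y hy => (hzc y hy).symm⟩ }
  refine ⟨N, r, hNn, hNA, hs, ?_⟩
  obtain ⟨x, hx, hxA⟩ := SetLike.not_le_iff_exists.1 hNA
  obtain ⟨y, hy, hxy⟩ : ∃ y ∈ N, ⁅x, y⁆ ≠ 1 := by
    by_contra hne
    push Not at hne
    exact hxA (hs.radical x hx fun y hy => commutatorElement_eq_one_iff_mul_comm.1 (hne y hy))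
  haveI := Fact.mk hr
  rw [← orderOf_eq_prime (hs.comm_pow hx hy) hxy]
  exact Subgroup.orderOf_dvd_natCard A (hcomm x hx y hy)

/-- transitivity on the nonzero vectors -/
theorem card_dvd_of_trans [Finite V] [Nontrivial V] (hT : Trans H) :
    Nat.card V - 1 ∣ Nat.card H := by
  classical
  haveI := finite_H (H := H)
  obtain ⟨v, hv⟩ := exists_ne (0 : V)
  have hcard : Nat.card (MulAction.orbit H v) = Nat.card V - 1 := by
    have he : MulAction.orbit H v = {w | w ≠ 0} := by
      ext w
      constructor
      · rintro ⟨h, rfl⟩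
        exact fun e => hv ((h : V ≃ₗ[ZMod p] V).map_eq_zero_iff.1 e)
      · exact fun hw => hT v w hv hw
    rw [he]
    have := Fintype.ofFinite V
    rw [Nat.card_eq_fintype_card, Nat.card_eq_fintype_card]
    exact (Fintype.card_subtype_compl _).trans (by rw [Fintype.card_subtype_eq])
  refine ⟨Nat.card (MulAction.stabilizer H v), ?_⟩
  rw [← hcard, Nat.card_congr (MulAction.orbitEquivQuotientStabilizer H v),
    ← Subgroup.card_eq_card_quotient_mul_card_subgroup]

end Cfsg.Agent.Perm.TransLinear
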