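import Mathlib
import Cfsg.Agent.Lib.Perm.TransLinear.Setting

/-!
# A primitive prime divisor in the order of a transitive linear group with a class two layer
-/

set_option autoImplicit false

namespace Cfsg.Agent.Perm.TransLinear

open scoped commutatorElement
open NearField (Inv Irr endH alg endH_apply alg_mem alg_comm endH_injective finite_end finite_H)

variable {p : ℕ} [hp : Fact p.Prime] {V : Type*} [AddCommGroup V] [Module (ZMod p) V]
variable {H : Subgroup (V ≃ₗ[ZMod p] V)} {A N : Subgroup H}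

/-- an element of primitive prime order is irreducible -/
theorem irreducible_of_primitive [Finite V] {n ℓ : ℕ} (hℓ : ℓ.Prime) (hV : Nat.card V = p ^ n)
    (hprim : ∀ j, 0 < j → j < n → ¬ ℓ ∣ p ^ j - 1) (hℓp : ℓ ≠ p) {x : H} (hx : orderOf x = ℓ)
    (U : Submodule (ZMod p) V) (hU : ∀ v ∈ U, endH H x v ∈ U) : U = ⊥ ∨ U = ⊤ := by
  classical
  haveI := Fact.mk hℓ
  haveI := finite_H (H := H)
  have hn : Module.finrank (ZMod p) V = n := by
    have h := Module.natCard_eq_pow_finrank (K := ZMod p) (V := V)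
    rw [hV, Nat.card_zmod] at h
    exact (Nat.pow_right_injective hp.out.two_le h).symm
  set L := Subgroup.zpowers x
  have hL : IsPGroup ℓ L := IsPGroup.of_card (n := 1) (by rw [Nat.card_zpowers, hx, pow_one])
  set F : Submodule (ZMod p) V := LinearMap.ker (endH H x - 1)
  have hF : ∀ v, v ∈ F ↔ endH H x v = v := fun v => by
    rw [LinearMap.mem_ker, LinearMap.sub_apply, Module.End.one_apply, sub_eq_zero]
  have hpow : ∀ j : ℕ, ∀ W : Submodule (ZMod p) V, (∀ v ∈ W, endH H x v ∈ W) →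
      ∀ v ∈ W, endH H (x ^ j) v ∈ W := by
    intro j W hW
    induction j with
    | zero => intro v hv; rwa [pow_zero, map_one]
    | succ j ih => intro v hv; rw [pow_succ, map_mul]; exact ih _ (hW v hv)
  -- counting fixed points in an invariant subspace
  have hmod : ∀ W : Submodule (ZMod p) V, (∀ v ∈ W, endH H x v ∈ W) →
      Nat.card W ≡ Nat.card (W ⊓ F : Submodule (ZMod p) V) [MOD ℓ] := by
    intro W hW
    letI : MulAction L W :=
      { smul := fun l v => ⟨endH H (l : H) v, by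
          obtain ⟨j, hj⟩ := mem_powers_iff_mem_zpowers.2 l.2
          rw [← hj]
          exact hpow j W hW v v.2⟩
        one_smul := fun v => Subtype.ext (by
          show endH H ((1 : L) : H) v = v
          rw [Subgroup.coe_one, map_one, Module.End.one_apply])
        mul_smul := fun a b v => Subtype.ext (by
          show endH H ((a * b : L) : H) v = endH H (a : H) (endH H (b : H) v)
          rw [Subgroup.coe_mul, map_mul, Module.End.mul_apply]) }
    refine (hL.card_modEq_card_fixedPoints W).trans ?_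
    rw [Nat.card_congr (show MulAction.fixedPoints L W ≃ (W ⊓ F : Submodule (ZMod p) V) from
      { toFun := fun v => ⟨(v : W), (v : W).2,
          (hF _).2 (congrArg Subtype.val (v.2 ⟨x, Subgroup.mem_zpowers x⟩))⟩
        invFun := fun v => ⟨⟨v, v.2.1⟩, fun l => Subtype.ext (by
          obtain ⟨j, hj⟩ := mem_powers_iff_mem_zpowers.2 l.2
          show endH H (l : H) v = v
          rw [← hj]
          show endH H (x ^ j) (v : V) = v
          clear hj
          induction j with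
          | zero => rw [pow_zero, map_one, Module.End.one_apply]
          | succ j ih => rw [pow_succ, map_mul, Module.End.mul_apply, (hF _).1 v.2.2, ih])⟩
        left_inv := fun v => rfl
        right_inv := fun v => rfl })]
  have hcardW : ∀ W : Submodule (ZMod p) V, Nat.card W = p ^ Module.finrank (ZMod p) W := fun W => by
    rw [Module.natCard_eq_pow_finrank (K := ZMod p) (V := W), Nat.card_zmod]
  have hsmall : ∀ i j, j ≤ i → i ≤ n → p ^ i ≡ p ^ j [MOD ℓ] → i = j ∨ (j = 0 ∧ i = n) := by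
    intro i j hji hin hij
    by_contra hne
    push Not at hne
    have h1 : ℓ ∣ p ^ i - p ^ j := (Nat.modEq_iff_dvd' (Nat.pow_le_pow_right hp.out.pos hji)).1 hij.symm
    rw [show p ^ i - p ^ j = p ^ j * (p ^ (i - j) - 1) by
      rw [Nat.mul_sub, mul_one, ← pow_add, Nat.add_sub_cancel' hji]] at h1
    rcases hℓ.dvd_mul.1 h1 with h2 | h2
    · exact hℓp ((Nat.prime_dvd_prime_iff_eq hℓ hp.out).1 (hℓ.dvd_of_dvd_pow h2))
    · refine hprim (i - j) ?_ ?_ h2
      · have := hne.1; omega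
      · by_cases hj : j = 0
        · have := hne.2 hj; omega
        · omega
  -- no nonzero fixed vectors
  have hFbot : F = ⊥ := by
    by_contra hne
    haveI : Nontrivial F := Submodule.nontrivial_iff_ne_bot.2 hne
    have hFpos : 0 < Module.finrank (ZMod p) F := Module.finrank_pos
    have h := hmod ⊤ (fun v _ => Submodule.mem_top)
    rw [top_inf_eq, hcardW, hcardW, finrank_top, hn] at h
    rcases hsmall n _ (hn ▸ Submodule.finrank_le F) le_rfl h with h' | ⟨h', -⟩
    · have hFt : F = ⊤ := Submodule.eq_top_of_finrank_eq (h'.symm.trans hn.symm)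
      have hx1 : x = 1 := endH_injective (LinearMap.ext fun v => by
        rw [map_one, Module.End.one_apply]
        exact (hF v).1 (hFt ▸ Submodule.mem_top))
      rw [hx1, orderOf_one] at hx
      exact hℓ.ne_one hx.symm
    · omega
  have h := hmod U hU
  rw [hFbot, inf_bot_eq, hcardW, hcardW, finrank_bot] at h
  rcases hsmall _ 0 (Nat.zero_le _) (hn ▸ Submodule.finrank_le U) h with h' | ⟨-, h'⟩
  · exact Or.inl (Submodule.finrank_eq_zero.1 h')
  · exact Or.inr (Submodule.eq_top_of_finrank_eq (h'.trans hn.symm))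

/-- an element fixed modulo `A` by an element of coprime order is fixed -/
theorem Sympl.fixed_of_mod {r : ℕ} (hs : Sympl A N r) (hN : N.Normal) {x : H} {ℓ : ℕ}
    (hx : x ^ ℓ = 1) (hℓr : Nat.Coprime ℓ r) (hxA : ∀ a ∈ A, x * a = a * x) {y : H} (hy : y ∈ N)
    (h : x * y * x⁻¹ * y⁻¹ ∈ A) : x * y = y * x := by
  set a := x * y * x⁻¹ * y⁻¹ with ha
  have hconj : x * y * x⁻¹ = a * y := by rw [ha, inv_mul_cancel_right]
  have hi : ∀ i : ℕ, x ^ i * y * (x ^ i)⁻¹ = a ^ i * y := by
    intro i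
    induction i with
    | zero => simp
    | succ i ih =>
      calc x ^ (i + 1) * y * (x ^ (i + 1))⁻¹ = x * (x ^ i * y * (x ^ i)⁻¹) * x⁻¹ := by
            rw [pow_succ', mul_inv_rev]; group
        _ = x * (a ^ i * y) * x⁻¹ := by rw [ih]
        _ = a ^ i * (x * y * x⁻¹) := by
            rw [← mul_assoc x, hxA _ (A.pow_mem h i)]; group
        _ = _ := by rw [hconj, ← mul_assoc, ← pow_succ]
  have h1 : a ^ ℓ = 1 := by
    have := hi ℓ
    rw [hx, one_mul, inv_one, mul_one] at this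
    exact mul_eq_right.1 this.symm
  have h2 : a ^ r = 1 := by
    have h3 : (x * y * x⁻¹) ^ r = y ^ r := by
      rw [conj_pow, hxA _ (hs.pow y hy), mul_inv_cancel_right]
    rw [hconj, (show Commute a y from hs.cen a h y hy).mul_pow] at h3
    exact mul_eq_right.1 h3
  have h4 := pow_gcd_eq_one.2 ⟨h1, h2⟩
  rw [hℓr, pow_one] at h4
  rw [h4, one_mul, mul_inv_eq_iff_eq_mul] at hconj
  exact hconj

set_option maxHeartbeats 1000000 in
/-- the consequences of one primitive prime divisor -/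
theorem primitive_step [Finite V] [Nontrivial V] (hT : Trans H)
    (hAn : A.Normal) (hAc : IsMulCommutative A) {r : ℕ} (hs : Sympl A N r)
    (hNn : N.Normal) (hNA : ¬ N ≤ A) (hrA : r ∣ Nat.card A) {k m : ℕ} (hk : 0 < k) (hm : 2 ≤ m)
    (hK : Nat.card (alg A) = p ^ k) (hV : Nat.card V = p ^ (k * m)) {ℓ : ℕ} (hℓ : ℓ.Prime)
    (hdvd : ℓ ∣ p ^ (k * m) - 1) (hprim : ∀ j, 0 < j → j < k * m → ¬ ℓ ∣ p ^ j - 1) :
    k = 1 ∧ ℓ = m + 1 ∧ (∃ d, m = 2 ^ d) ∧ p ≠ 2 ∧ ¬ ℓ ^ 2 ∣ Nat.card H := by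
  classical
  haveI := finite_H (H := H)
  haveI := hAn
  haveI := hNn
  haveI := Fact.mk hℓ
  set C := Subgroup.centralizer (A : Set H)
  have hidx : C.index ∣ k := galois_index hT hAn hAc hK
  have hAdvd : Nat.card A ∣ p ^ k - 1 := card_dvd_sub_one hT hAn hAc hK
  have hkn : k < k * m := by nlinarith
  have hℓA : ¬ ℓ ∣ Nat.card A := fun h => hprim k hk hkn (h.trans hAdvd)
  have hℓr : Nat.Coprime ℓ r := by
    refine (Nat.coprime_primes hℓ hs.prime).2 fun e => hℓA (e ▸ hrA)
  have hℓp : ℓ ≠ p := by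
    rintro rfl
    have h2 : ℓ ∣ ℓ ^ (k * m) := dvd_pow_self ℓ (by positivity)
    have h3 := Nat.dvd_sub h2 hdvd
    rw [Nat.sub_sub_self (Nat.one_le_pow _ _ hℓ.pos)] at h3
    exact hℓ.ne_one (Nat.dvd_one.1 h3)
  -- the prime exceeds the dimension
  have hbig : k * m + 1 ≤ ℓ := by
    have hne : (p : ZMod ℓ) ≠ 0 := fun e =>
      hℓp ((Nat.prime_dvd_prime_iff_eq hℓ hp.out).1 ((ZMod.natCast_eq_zero_iff p ℓ).1 e))
    have h1 : ∀ j, (p : ZMod ℓ) ^ j = 1 ↔ ℓ ∣ p ^ j - 1 := fun j => by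
      rw [← ZMod.natCast_eq_zero_iff, Nat.cast_sub (Nat.one_le_pow _ _ hp.out.pos), sub_eq_zero,
        Nat.cast_pow, Nat.cast_one]
    have ho : orderOf (p : ZMod ℓ) = k * m := by
      rw [orderOf_eq_iff (by positivity)]
      exact ⟨(h1 _).2 hdvd, fun j hj hj0 e => hprim j hj0 hj ((h1 j).1 e)⟩
    have h2 := Nat.le_of_dvd (by have := hℓ.two_le; omega) (ZMod.orderOf_dvd_card_sub_one hne)
    rw [ho] at h2
    have := hℓ.two_le
    omega
  set π : H →* H ⧸ A := QuotientGroup.mk' A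
  have hkerπ : π.ker = A := QuotientGroup.ker_mk' A
  have hπ1 : ∀ y, π y = 1 ↔ y ∈ A := fun y => QuotientGroup.eq_one_iff y
  set Nb := N.map π
  have hNb : ∀ a ∈ Nb, ∀ b ∈ Nb, a * b = b * a := by
    rintro _ ⟨y, hy, rfl⟩ _ ⟨z, hz, rfl⟩
    refine commutatorElement_eq_one_iff_mul_comm.1 ?_
    rw [← map_commutatorElement, hπ1]
    exact hs.comm y hy z hz
  have hNbr : ∀ a ∈ Nb, a ^ r = 1 := by
    rintro _ ⟨y, hy, rfl⟩
    rw [← map_pow, hπ1]
    exact hs.pow y hy
  have hrelN : Nat.card Nb = A.relIndex N := by rw [← Subgroup.relIndex_ker, hkerπ]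
  haveI hNbn : Nb.Normal := Subgroup.Normal.map hNn π (QuotientGroup.mk'_surjective A)
  obtain ⟨hbound, -⟩ := layer_bound hT hAn hAc hs hk hK hV
  -- every element of order `ℓ` moves every nontrivial element of the layer
  have key : ∀ x : H, orderOf x = ℓ → k = 1 ∧ ℓ = m + 1 ∧ r = 2 ∧ (∃ d, m = 2 ^ d ∧
      Nat.card Nb = 2 ^ (2 * d)) ∧ ∀ q ∈ Nb, π x * q * (π x)⁻¹ = q → q = 1 := by
    intro x hx
    have hxC : x ∈ C := by
      have hp' := Subgroup.index_mul_card C
      by_contra hxC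
      have h1 : ℓ ∣ C.index := by
        haveI : C.Normal := inferInstance
        rw [Subgroup.index_eq_card, ← hx]
        have h2 : orderOf (x : H ⧸ C) = orderOf x := by
          haveI := Fact.mk hℓ
          rw [hx]
          refine orderOf_eq_prime ?_ fun e => hxC ((QuotientGroup.eq_one_iff x).1 e)
          rw [← QuotientGroup.mk_pow, ← hx, pow_orderOf_eq_one]
          rfl
        rw [← h2]
        exact orderOf_dvd_natCard _
      have := Nat.le_of_dvd hk (h1.trans hidx)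
      omega
    have hxA : ∀ a ∈ A, x * a = a * x := fun a ha =>
      (Subgroup.mem_centralizer_iff.1 hxC a ha).symm
    have hxℓ : x ^ ℓ = 1 := by rw [← hx, pow_orderOf_eq_one]
    set xb := π x
    have hxbℓ : xb ^ ℓ = 1 := by rw [← map_pow, hxℓ, map_one]
    let δ : Nb →* Nb := MonoidHom.mk'
      (fun q => ⟨xb * q * xb⁻¹ * (q : H ⧸ A)⁻¹, Nb.mul_mem (hNbn.conj_mem q q.2 xb) (Nb.inv_mem q.2)⟩)
      (fun a b => Subtype.ext (by
        show xb * ((a : H ⧸ A) * b) * xb⁻¹ * ((a : H ⧸ A) * b)⁻¹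
          = xb * a * xb⁻¹ * (a : H ⧸ A)⁻¹ * (xb * b * xb⁻¹ * (b : H ⧸ A)⁻¹)
        rw [show xb * ((a : H ⧸ A) * b) * xb⁻¹ * ((a : H ⧸ A) * b)⁻¹
          = xb * a * xb⁻¹ * ((xb * b * xb⁻¹ * (b : H ⧸ A)⁻¹) * (a : H ⧸ A)⁻¹) by group,
          hNb _ (Nb.mul_mem (hNbn.conj_mem b b.2 xb) (Nb.inv_mem b.2)) _ (Nb.inv_mem a.2)]
        group))
    have hfix : ∀ q : Nb, xb * (δ q : H ⧸ A) * xb⁻¹ = (δ q : H ⧸ A) → δ q = 1 := by
      intro q hq
      set d : H ⧸ A := (δ q : H ⧸ A)
      have hd : xb * q * xb⁻¹ = d * q := (inv_mul_cancel_right _ _).symm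
      have hi : ∀ i : ℕ, xb ^ i * q * (xb ^ i)⁻¹ = d ^ i * (q : H ⧸ A) := by
        intro i
        induction i with
        | zero => simp
        | succ i ih =>
          calc xb ^ (i + 1) * q * (xb ^ (i + 1))⁻¹ = xb * (xb ^ i * q * (xb ^ i)⁻¹) * xb⁻¹ := by
                rw [pow_succ', mul_inv_rev]; group
            _ = (xb * d * xb⁻¹) ^ i * (xb * q * xb⁻¹) := by rw [ih, conj_pow]; group
            _ = _ := by rw [hq, hd, ← mul_assoc, ← pow_succ]
      have h1 : d ^ ℓ = 1 := by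
        have := hi ℓ
        rw [hxbℓ, one_mul, inv_one, mul_one] at this
        exact mul_eq_right.1 this.symm
      have h2 : d ^ r = 1 := hNbr _ (δ q).2
      have h4 := pow_gcd_eq_one.2 ⟨h1, h2⟩
      rw [hℓr, pow_one] at h4
      exact Subtype.ext h4
    -- the element does not centralize the layer
    have hδ : δ.range ≠ ⊥ := by
      intro hbot
      apply hNA
      have hcentral : ∀ y ∈ N, x * y = y * x := by
        intro y hy
        refine hs.fixed_of_mod hNn hxℓ hℓr hxA hy ?_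
        rw [← hπ1]
        have h := congrArg Subtype.val (DFunLike.congr_fun (MonoidHom.range_eq_bot_iff.1 hbot)
          (⟨π y, y, hy, rfl⟩ : Nb))
        simpa [δ] using h
      intro z hz
      refine hs.radical z hz fun y hy => endH_injective ?_
      rw [map_mul, map_mul]
      have hmem : ∀ w ∈ N, endH H w ∈ Subalgebra.centralizer (ZMod p) {endH H x} := by
        intro w hw
        rw [Subalgebra.mem_centralizer_iff]
        rintro g rfl
        rw [← map_mul, ← map_mul, hcentral w hw]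
      exact NearField.centralizer_comm ({endH H x} : Set (Module.End (ZMod p) V))
        (fun U hU => irreducible_of_primitive hℓ hV hprim hℓp hx U
          fun v hv => hU _ rfl v hv) (hmem z hz) (hmem y hy)
    set Db := δ.range.map Nb.subtype
    have hDb : Db ≤ Nb := by rintro _ ⟨q, -, rfl⟩; exact q.2
    have hDfix : ∀ q ∈ Db, xb * q * xb⁻¹ = q → q = 1 := by
      rintro _ ⟨_, ⟨q, rfl⟩, rfl⟩ hq
      exact congrArg Subtype.val (hfix q hq)
    have hDne : Db ≠ ⊥ := fun e => hδ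
      ((Subgroup.map_eq_bot_iff_of_injective _ Subtype.val_injective).1 e)
    have hDnorm : ∀ q ∈ Db, xb * q * xb⁻¹ ∈ Db := by
      rintro _ ⟨_, ⟨q, rfl⟩, rfl⟩
      refine ⟨_, ⟨⟨xb * q * xb⁻¹, hNbn.conj_mem q q.2 xb⟩, rfl⟩, ?_⟩
      show xb * (xb * q * xb⁻¹) * xb⁻¹ * (xb * q * xb⁻¹)⁻¹ = xb * (xb * q * xb⁻¹ * (q : H ⧸ A)⁻¹) * xb⁻¹
      group
    obtain ⟨Mb, ⟨hMD, hMne, hMnorm⟩, hMmin'⟩ := wellFounded_lt.has_min
      {M : Subgroup (H ⧸ A) | M ≤ Db ∧ M ≠ ⊥ ∧ ∀ q ∈ M, xb * q * xb⁻¹ ∈ M} ⟨Db, le_rfl, hDne, hDnorm⟩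
    have hfree : ℓ ∣ Nat.card Mb - 1 := by
      have hxb1 : xb ≠ 1 := fun e => hℓA (hx ▸ Subgroup.orderOf_dvd_natCard A ((hπ1 x).1 e))
      have hxbo : orderOf xb = ℓ := orderOf_eq_prime hxbℓ hxb1
      rw [← hxbo, ← Nat.card_zpowers]
      refine card_dvd_of_free _ Mb (Subgroup.zpowers_le.2 (Subgroup.mem_normalizer_fintype ?_)) ?_
      · exact hMnorm
      · intro l hl hl1 q hq hlq
        refine hDfix q (hMD hq) ?_
        have hgen : Subgroup.zpowers l = Subgroup.zpowers xb := by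
          refine Subgroup.eq_of_le_of_card_ge (Subgroup.zpowers_le.2 hl) ?_
          rw [Nat.card_zpowers, Nat.card_zpowers, hxbo]
          rcases hℓ.eq_one_or_self_of_dvd _ (hxbo ▸ Nat.card_zpowers xb ▸
            Subgroup.orderOf_dvd_natCard _ hl) with h | h
          · exact absurd (orderOf_eq_one_iff.1 h) hl1
          · rw [h]
        have hc : Commute l q := mul_inv_eq_iff_eq_mul.1 hlq
        obtain ⟨j, hj⟩ := Subgroup.mem_zpowers_iff.1 (hgen ▸ Subgroup.mem_zpowers xb : xb ∈ _)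
        rw [← hj, mul_inv_eq_iff_eq_mul]
        exact hc.zpow_left j
    set M := N ⊓ Mb.comap π
    have hMmap : M.map π = Mb := by
      refine le_antisymm (by rintro _ ⟨y, hy, rfl⟩; exact hy.2) fun q hq => ?_
      obtain ⟨y, hy, rfl⟩ := hDb (hMD hq)
      exact ⟨y, ⟨hy, hq⟩, rfl⟩
    have hAM : A ≤ M := fun a ha => ⟨hs.le ha, by
      show π a ∈ Mb; rw [(hπ1 a).2 ha]; exact Mb.one_mem⟩
    have hrelM : Nat.card Mb = A.relIndex M := by rw [← hMmap, ← Subgroup.relIndex_ker, hkerπ]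
    have hle : Nat.card Mb ≤ Nat.card Nb :=
      Subgroup.card_le_of_le (hMD.trans hDb)
    have hMb1 : 1 < Nat.card Mb := by
      haveI : Nontrivial Mb := (Subgroup.nontrivial_iff_ne_bot Mb).2 hMne
      exact Finite.one_lt_card
    have hℓle := Nat.le_of_dvd (by omega) hfree
    -- the centre of the minimal invariant subgroup
    set Z := M ⊓ Subgroup.centralizer (M : Set H)
    have hAZ : A ≤ Z := fun a ha => ⟨hAM ha, Subgroup.mem_centralizer_iff.2 fun y hy =>
      (hs.cen a ha y hy.1).symm⟩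
    have hZnorm : ∀ q ∈ Z.map π, xb * q * xb⁻¹ ∈ Z.map π := by
      have hMx : ∀ y ∈ M, x * y * x⁻¹ ∈ M := fun y hy => ⟨hNn.conj_mem y hy.1 x, by
        show π (x * y * x⁻¹) ∈ Mb; rw [map_mul, map_mul, map_inv]; exact hMnorm _ hy.2⟩
      rintro _ ⟨y, hy, rfl⟩
      refine ⟨x * y * x⁻¹, ⟨hMx y hy.1, Subgroup.mem_centralizer_iff.2 fun w hw => ?_⟩,
        by rw [map_mul, map_mul, map_inv]⟩
      have hxn : x ∈ Subgroup.normalizer (M : Set H) := Subgroup.mem_normalizer_fintype hMx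
      have h1 := Subgroup.mem_centralizer_iff.1 hy.2 _
        ((Subgroup.mem_normalizer_iff.1 hxn (x⁻¹ * w * x)).2 (by simpa [mul_assoc] using hw))
      calc w * (x * y * x⁻¹) = x * ((x⁻¹ * w * x) * y) * x⁻¹ := by group
        _ = x * (y * (x⁻¹ * w * x)) * x⁻¹ := by rw [h1]
        _ = _ := by group
    have hZle : Z.map π ≤ Mb := hMmap ▸ Subgroup.map_mono inf_le_left
    rcases eq_or_ne (Z.map π) ⊥ with hZ | hZ
    · -- nondegenerate
      rw [Subgroup.map_eq_bot_iff, hkerπ] at hZ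
      obtain ⟨d, hd⟩ := hs.square M hAM inf_le_left fun z hz hzc =>
        hZ ⟨hz, Subgroup.mem_centralizer_iff.2 fun y hy => (hzc y hy).symm⟩
      rw [← hrelM] at hd
      have hrd : r ^ d ≤ m := by
        have h2 : (r ^ d) ^ 2 ≤ m ^ 2 := by
          rw [← pow_mul, mul_comm, ← hd, sq]
          exact hle.trans (hrelN ▸ hbound)
        exact (Nat.pow_le_pow_iff_left two_ne_zero).1 h2
      have hrd0 : 0 < r ^ d := pow_pos hs.prime.pos d
      have hsplit : ℓ ∣ (r ^ d + 1) * (r ^ d - 1) := by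
        rw [← Nat.sq_sub_sq, one_pow, ← pow_mul, mul_comm d, ← hd]
        exact hfree
      have hd2 : 1 < r ^ d := by
        rw [hd, mul_comm, pow_mul] at hMb1
        by_contra h
        have : r ^ d = 1 := by omega
        rw [this] at hMb1
        norm_num at hMb1
      have hℓm : ℓ ≤ m + 1 ∧ ℓ ∣ r ^ d + 1 := by
        rcases hℓ.dvd_mul.1 hsplit with h | h
        · exact ⟨by have := Nat.le_of_dvd (by omega) h; omega, h⟩
        · have := Nat.le_of_dvd (by omega) h
          have : k * m ≥ m := Nat.le_mul_of_pos_left m hk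
          omega
      have hk1 : k = 1 := by
        by_contra hne
        have : 2 * m ≤ k * m := Nat.mul_le_mul_right m (by omega)
        omega
      subst hk1
      have hℓeq : ℓ = m + 1 := by omega
      have hrdm : r ^ d = m := by
        have := Nat.le_of_dvd (by omega) hℓm.2
        omega
      have hr2 : r = 2 := by
        have hodd := hℓ.odd_of_ne_two (by omega)
        rw [hℓeq, ← hrdm] at hodd
        rcases hs.prime.eq_two_or_odd' with h | h
        · exact h
        · exfalso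
          exact Nat.not_even_iff_odd.2 hodd (Odd.add_one (h.pow))
      subst hr2
      have hcardNb : Nat.card Nb = 2 ^ (2 * d) := le_antisymm (by
        rw [hrelN, pow_mul', hrdm, sq]; exact hbound) (hd ▸ hle)
      have hMbN : Mb = Nb := Subgroup.eq_of_le_of_card_ge (hMD.trans hDb) (by rw [hcardNb, hd])
      exact ⟨rfl, hℓeq, rfl, ⟨d, hrdm.symm, hcardNb⟩, fun q hq => hDfix q (hMD (hMbN ▸ hq))⟩
    · -- commutative
      exfalso
      have hZeq : Z.map π = Mb := hZle.eq_or_lt.resolve_right fun h =>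
        hMmin' _ ⟨hZle.trans hMD, hZ, hZnorm⟩ h
      have hMZ : M ≤ Z := by
        intro y hy
        obtain ⟨z, hz, hzy⟩ := (hZeq.symm ▸ hy.2 : π y ∈ Z.map π)
        have : z⁻¹ * y ∈ A := by rw [← hπ1, map_mul, map_inv, hzy, inv_mul_cancel]
        simpa using Z.mul_mem hz (hAZ this)
      have hmc : ∀ a ∈ M, ∀ b ∈ M, a * b = b * a := fun a ha b hb =>
        (Subgroup.mem_centralizer_iff.1 (hMZ ha).2 b hb).symm
      letI : CommRing (alg A) :=
        { (inferInstance : Ring (alg A)) with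
          mul_comm := fun x y => Subtype.ext (alg_comm hAc x.2 y.2) }
      haveI : IsDomain (alg A) := alg_isDomain hT hAn hAc
      haveI := finite_end (p := p) (V := V)
      have := Fintype.ofFinite (alg A)
      letI : Field (alg A) := Fintype.fieldOfDomain (alg A)
      have hsq := hs.sq_le (NearField.toAlg A) NearField.toAlg_injective hAM inf_le_left hmc
      rw [← hrelM] at hsq
      have h2 : (Nat.card Mb) ^ 2 ≤ m ^ 2 := by rw [sq, sq]; exact hsq.trans hbound
      have := (Nat.pow_le_pow_iff_left two_ne_zero).1 h2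
      have : k * m ≥ m := Nat.le_mul_of_pos_left m hk
      omega
  have hℓH : ℓ ∣ Nat.card H := hdvd.trans (hV ▸ card_dvd_of_trans hT)
  obtain ⟨x, hx⟩ := exists_prime_orderOf_dvd_card' (G := H) ℓ hℓH
  obtain ⟨hk1, hℓeq, hr2, ⟨d, hmd, hcardNb⟩, -⟩ := key x hx
  refine ⟨hk1, hℓeq, ⟨d, hmd⟩, ?_, ?_⟩
  · subst hk1 hr2
    rintro rfl
    have := hrA.trans hAdvd
    norm_num at this
  intro hsq
  obtain ⟨L, hL⟩ := Sylow.exists_subgroup_card_pow_prime ℓ hsq
  have hLA : L ⊓ A = ⊥ := by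
    rw [← Subgroup.card_eq_one]
    refine Nat.eq_one_of_dvd_coprimes (Nat.Coprime.pow_left 2 (hℓ.coprime_iff_not_dvd.2 hℓA))
      (hL ▸ Subgroup.card_dvd_of_le inf_le_left) (Subgroup.card_dvd_of_le inf_le_right)
  have hLinj : Function.Injective (π.comp L.subtype) := by
    rw [injective_iff_map_eq_one]
    intro l hl
    have : (l : H) ∈ L ⊓ A := ⟨l.2, (hπ1 _).1 hl⟩
    rw [hLA, Subgroup.mem_bot] at this
    exact Subtype.ext this
  have hLb : Nat.card (π.comp L.subtype).range = ℓ ^ 2 := by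
    rw [← Nat.card_congr (MonoidHom.ofInjective hLinj).toEquiv, hL]
  have hdiv : ℓ ^ 2 ∣ Nat.card Nb - 1 := by
    rw [← hLb]
    refine card_dvd_of_free _ Nb (fun g _ => Subgroup.normalizer_eq_top_iff.2 hNbn ▸ Subgroup.mem_top g) ?_
    rintro _ ⟨l, rfl⟩ hl1 q hq hlq
    have hl1' : l ≠ 1 := fun e => hl1 (by rw [e, map_one])
    -- a power of order `ℓ`
    obtain ⟨i, hi2, hi⟩ := (Nat.dvd_prime_pow hℓ).1 (hL ▸ orderOf_dvd_natCard l)
    have hi1 : 1 ≤ i := by
      by_contra h
      have : i = 0 := by omega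
      subst this
      rw [pow_zero, orderOf_eq_one_iff] at hi
      exact hl1' hi
    have hord : orderOf ((l : H) ^ (ℓ ^ (i - 1))) = ℓ := by
      rw [orderOf_pow' _ (pow_ne_zero _ hℓ.ne_zero), Subgroup.orderOf_coe, hi,
        Nat.gcd_eq_right (pow_dvd_pow ℓ (Nat.sub_le i 1)), Nat.pow_div (Nat.sub_le i 1) hℓ.pos,
        Nat.sub_sub_self hi1, pow_one]
    refine (key _ hord).2.2.2.2 q hq ?_
    rw [map_pow, mul_inv_eq_iff_eq_mul]
    exact (show Commute (π (l : H)) q from mul_inv_eq_iff_eq_mul.1 hlq).pow_left _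
  rw [hcardNb, hℓeq, hmd] at hdiv
  have h2 : (2 ^ d + 1) ^ 2 ∣ (2 ^ d + 1) * (2 ^ d - 1) := by
    rwa [← Nat.sq_sub_sq, one_pow, ← pow_mul, mul_comm d]
  rw [sq] at h2
  have h3 := Nat.dvd_of_mul_dvd_mul_left (by positivity) h2
  have h4 : 0 < 2 ^ d - 1 := by
    have : 2 ≤ 2 ^ d := hmd ▸ hm
    omega
  have := Nat.le_of_dvd h4 h3
  omega

end Cfsg.Agent.Perm.TransLinear
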