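import Mathlib
import Cfsg.Agent.Lib.Perm.TransLinear.Prime
import Cfsg.Agent.Lib.CharP.Zsigmondy

/-!
# Huppert: solvable linear groups transitive on the nonzero vectors
-/

set_option autoImplicit false

namespace Cfsg.Agent.Perm.TransLinear

open scoped commutatorElement
open NearField (Inv Irr endH alg endH_apply alg_mem alg_comm endH_injective finite_end finite_H toAlg toAlg_injective)

variable {p : ℕ} [hp : Fact p.Prime] {V : Type*} [AddCommGroup V] [Module (ZMod p) V]
variable {H : Subgroup (V ≃ₗ[ZMod p] V)} {A N : Subgroup H}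

/-- with a full layer, what centralizes it lies in `A` -/
theorem mem_of_full [Finite V] [Nontrivial V] (hT : Trans H) (hAn : A.Normal)
    (hAc : IsMulCommutative A)
    (hAmax : ∀ B : Subgroup H, B.Normal → IsMulCommutative B → A ≤ B → B = A) {r : ℕ}
    (hs : Sympl A N r) (hNn : N.Normal) {k m : ℕ} (hk : 0 < k) (hK : Nat.card (alg A) = p ^ k)
    (hV : Nat.card V = p ^ (k * m)) (hfull : m * m ≤ A.relIndex N) {z : H}
    (hzA : ∀ a ∈ A, a * z = z * a) (hzN : ∀ y ∈ N, z * y = y * z) : z ∈ A := by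
  haveI := hNn
  haveI := hAn
  set B := Subgroup.centralizer (A : Set H) ⊓ Subgroup.centralizer (N : Set H)
  have hscal : ∀ w ∈ B, endH H w ∈ alg A := fun w hw =>
    (layer_bound hT hAn hAc hs hk hK hV).2 hfull w hw.1
      fun y hy => (Subgroup.mem_centralizer_iff.1 hw.2 y hy).symm
  have hBA : B = A := by
    refine hAmax B inferInstance ⟨⟨fun a b => Subtype.ext (endH_injective ?_)⟩⟩ fun a ha => ⟨?_, ?_⟩
    · rw [Subgroup.coe_mul, Subgroup.coe_mul, map_mul, map_mul]
      exact alg_comm hAc (hscal a a.2) (hscal b b.2)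
    · exact Subgroup.le_centralizer_iff_isMulCommutative.2 hAc ha
    · exact Subgroup.mem_centralizer_iff.2 fun y hy => (hs.cen a ha y hy).symm
  exact hBA ▸ ⟨Subgroup.mem_centralizer_iff.2 hzA,
    Subgroup.mem_centralizer_iff.2 fun y hy => (hzN y hy).symm⟩

/-- the automorphisms of a group of order four with squares trivial -/
theorem card_aut_dvd_six {Q : Type*} [Group Q] [Finite Q] (hQ : Nat.card Q = 4) :
    ∀ S : Subgroup (MulAut Q), Nat.card S ∣ 6 := by
  classical
  intro S
  let f : MulAut Q →* Equiv.Perm {q : Q // q ≠ 1} :=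
    { toFun := fun φ => φ.toEquiv.subtypeEquiv fun q => not_congr φ.map_eq_one_iff.symm
      map_one' := Equiv.ext fun q => Subtype.ext rfl
      map_mul' := fun a b => Equiv.ext fun q => Subtype.ext rfl }
  have hf : Function.Injective f := by
    intro a b e
    refine MulEquiv.ext fun q => ?_
    by_cases hq : q = 1
    · rw [hq, map_one, map_one]
    · exact congrArg Subtype.val (Equiv.ext_iff.1 e ⟨q, hq⟩)
  have h3 : Nat.card {q : Q // q ≠ 1} = 3 := by
    have := Fintype.ofFinite Q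
    rw [Nat.card_eq_fintype_card, Fintype.card_subtype_compl, Fintype.card_subtype_eq,
      ← Nat.card_eq_fintype_card, hQ]
  have h := Subgroup.card_dvd_of_injective (f.comp S.subtype) (hf.comp S.subtype_injective)
  rwa [Nat.card_perm, h3] at h

/-- the plane: the stabilizer of the layer is small -/
theorem plane_case [Finite V] [Nontrivial V] (hT : Trans H) (hAn : A.Normal)
    (hAc : IsMulCommutative A)
    (hAmax : ∀ B : Subgroup H, B.Normal → IsMulCommutative B → A ≤ B → B = A) {r : ℕ}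
    (hs : Sympl A N r) (hNn : N.Normal) (hNA : ¬ N ≤ A) (hrA : r ∣ Nat.card A)
    (hK : Nat.card (alg A) = p ^ 1) (hV : Nat.card V = p ^ (1 * 2)) :
    p = 3 ∨ p = 5 ∨ p = 7 ∨ p = 11 ∨ p = 23 := by
  classical
  haveI := finite_H (H := H)
  haveI := hAn
  haveI := hNn
  haveI := hs.cyc
  obtain ⟨hbound, -⟩ := layer_bound hT hAn hAc hs Nat.one_pos hK hV
  obtain ⟨d, hd⟩ := hs.square N hs.le le_rfl hs.radical
  have hr2 := hs.prime.two_le
  have hd1 : 1 ≤ d := by
    by_contra h
    have : d = 0 := by omega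
    subst this
    exact hNA (Subgroup.relIndex_eq_one.1 (by simpa using hd))
  have h4 : r = 2 ∧ A.relIndex N = 4 := by
    have h1 : r ^ 2 ≤ r ^ (2 * d) := Nat.pow_le_pow_right hs.prime.pos (by omega)
    rw [← hd] at h1
    have : r ≤ 2 := by nlinarith
    have : r = 2 := by omega
    subst this
    exact ⟨rfl, by omega⟩
  obtain ⟨rfl, hrel⟩ := h4
  have hAdvd : Nat.card A ∣ p - 1 := by simpa using card_dvd_sub_one hT hAn hAc hK
  have hC : Subgroup.centralizer (A : Set H) = ⊤ := Subgroup.index_eq_one.1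
    (Nat.dvd_one.1 (galois_index hT hAn hAc hK))
  have hcenA : ∀ (y : H), ∀ a ∈ A, a * y = y * a := fun y a ha =>
    Subgroup.mem_centralizer_iff.1 (hC ▸ Subgroup.mem_top y) a ha
  set π : H →* H ⧸ A := QuotientGroup.mk' A
  have hπ1 : ∀ y, π y = 1 ↔ y ∈ A := fun y => QuotientGroup.eq_one_iff y
  set Nb := N.map π
  haveI hNbn : Nb.Normal := Subgroup.Normal.map hNn π (QuotientGroup.mk'_surjective A)
  have hNb4 : Nat.card Nb = 4 := by
    rw [← hrel, ← Subgroup.relIndex_ker, QuotientGroup.ker_mk']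
  let α : H →* MulAut Nb := (MulAut.conjNormal (H := Nb)).comp π
  -- two noncommuting elements of the layer
  obtain ⟨u, hu, huA⟩ := SetLike.not_le_iff_exists.1 hNA
  obtain ⟨v, hv, huv⟩ : ∃ v ∈ N, ⁅u, v⁆ ≠ 1 := by
    by_contra hne
    push Not at hne
    exact huA (hs.radical u hu fun y hy => commutatorElement_eq_one_iff_mul_comm.1 (hne y hy))
  have hgen : ∀ y ∈ N, ∀ z : H, z * u = u * z → z * v = v * z → z * y = y * z := by
    intro y hy z hzu hzv
    let S : Subgroup H := Subgroup.centralizer {z}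
    have hS : ∀ {w}, w ∈ S ↔ z * w = w * z := by
      intro w; simp [S, Subgroup.mem_centralizer_singleton_iff, eq_comm]
    have hle : Nb ≤ S.map π := by
      have hcard : Nat.card Nb ≤ Nat.card (Nb ⊓ S.map π : Subgroup (H ⧸ A)) := by
        rw [hNb4]
        have hmem : ∀ w ∈ N, w ∈ S → π w ∈ (Nb ⊓ S.map π : Subgroup (H ⧸ A)) :=
          fun w hw hwS => ⟨⟨w, hw, rfl⟩, ⟨w, hwS, rfl⟩⟩
        have hne1 : ∀ w, w ∈ N → ∀ w' ∈ N, ⁅w, w'⁆ ≠ 1 → π w ≠ 1 := fun w _ w' hw' h e =>
          h (hs.comm_eq_one_of_mem ((hπ1 w).1 e) hw')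
        let f : Fin 4 → (Nb ⊓ S.map π : Subgroup (H ⧸ A)) :=
          ![1, ⟨π u, hmem u hu (hS.2 hzu)⟩, ⟨π v, hmem v hv (hS.2 hzv)⟩,
            ⟨π (u * v), hmem _ (N.mul_mem hu hv) (S.mul_mem (hS.2 hzu) (hS.2 hzv))⟩]
        have e1 : π u ≠ 1 := hne1 u hu v hv huv
        have e2 : π v ≠ 1 := hne1 v hv u hu fun h => huv (by
          rw [← commutatorElement_inv, h, inv_one])
        have e3 : π u ≠ π v := fun e => by
          refine huv ?_
          have hmemA : u⁻¹ * v ∈ A := by rw [← hπ1, map_mul, map_inv, e, inv_mul_cancel]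
          have h1 := hs.cen _ hmemA u hu
          rw [commutatorElement_eq_one_iff_mul_comm]
          calc u * v = u * (u * (u⁻¹ * v)) := by group
            _ = u * ((u⁻¹ * v) * u) := by rw [h1]
            _ = v * u := by group
        have e4 : π (u * v) ≠ 1 := fun e => by
          refine huv ?_
          have h1 := hs.cen _ ((hπ1 _).1 e) u hu
          rw [commutatorElement_eq_one_iff_mul_comm]
          calc u * v = u⁻¹ * (u * (u * v)) := by group
            _ = u⁻¹ * ((u * v) * u) := by rw [h1]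
            _ = v * u := by group
        have e5 : π (u * v) ≠ π u := fun e => e2 (by simpa [map_mul] using e)
        have e6 : π (u * v) ≠ π v := fun e => e1 (by simpa [map_mul] using e)
        refine (le_of_eq (Nat.card_fin 4).symm).trans (Nat.card_le_card_of_injective f ?_)
        intro i j e
        have e' := congrArg Subtype.val e
        fin_cases i <;> fin_cases j <;> simp [f] at e' ⊢ <;>
          first
          | exact e1 e' | exact e1 e'.symm | exact e2 e' | exact e2 e'.symm | exact e3 e'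
          | exact e3 e'.symm | exact e4 (by rw [map_mul]; exact e') | exact e4 (by rw [map_mul]; exact e'.symm)
          | exact e5 (by rw [map_mul]; exact e') | exact e5 (by rw [map_mul]; exact e'.symm)
          | exact e6 (by rw [map_mul]; exact e') | exact e6 (by rw [map_mul]; exact e'.symm)
      exact (Subgroup.eq_of_le_of_card_ge inf_le_left hcard).symm.le.trans inf_le_right
    obtain ⟨w, hw, hwy⟩ := hle ⟨y, hy, rfl⟩
    have hA' : w⁻¹ * y ∈ A := by rw [← hπ1, map_mul, map_inv, hwy, inv_mul_cancel]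
    have h2 : y ∈ S := by
      have hAS : w⁻¹ * y ∈ S := hS.2 (hcenA z _ hA').symm
      simpa using S.mul_mem hw hAS
    exact hS.1 h2
  have hαker : ∀ t : α.ker, ∀ w ∈ N, ⁅(t : H), w⁆ ∈ A := by
    intro t w hw
    rw [← hπ1, map_commutatorElement]
    have h := congrArg Subtype.val
      (DFunLike.congr_fun (MonoidHom.mem_ker.1 t.2) (⟨π w, w, hw, rfl⟩ : Nb))
    change π (t : H) * π w * (π (t : H))⁻¹ = π w at h
    rw [commutatorElement_def, h, mul_inv_cancel]
  let adT : ∀ w ∈ N, α.ker →* A := fun w hw => MonoidHom.mk'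
    (fun t => ⟨⁅(t : H), w⁆, hαker t w hw⟩) (fun a b => Subtype.ext (by
      show ⁅((a * b : α.ker) : H), w⁆ = ⁅(a : H), w⁆ * ⁅(b : H), w⁆
      have e : ⁅(a : H) * b, w⁆ = a * ⁅(b : H), w⁆ * (a : H)⁻¹ * ⁅(a : H), w⁆ := by
        simp only [commutatorElement_def]; group
      rw [Subgroup.coe_mul, e, ← hcenA (a : H) _ (hαker b w hw), mul_inv_cancel_right,
        hcenA _ _ (hαker b w hw)]))
  let θ : α.ker →* A × A := (adT u hu).prod (adT v hv)
  set c : A := ⟨⁅u, v⁆, hs.comm u hu v hv⟩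
  have hc1 : c ≠ 1 := fun e => huv (congrArg Subtype.val e)
  have hc2 : c ^ 2 = 1 := Subtype.ext (hs.comm_pow hu hv)
  have hsq : ∀ w (hw : w ∈ N) (t : α.ker), (adT w hw t) ^ 2 = 1 := by
    intro w hw t
    refine Subtype.ext ?_
    show ⁅(t : H), w⁆ ^ 2 = 1
    have hcon : (t : H) * w * (t : H)⁻¹ = ⁅(t : H), w⁆ * w := by
      rw [commutatorElement_def, inv_mul_cancel_right]
    have h3 : ((t : H) * w * (t : H)⁻¹) ^ 2 = w ^ 2 := by
      rw [conj_pow, ← hcenA (t : H) _ (hs.pow w hw), mul_inv_cancel_right]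
    rw [hcon, (show Commute ⁅(t : H), w⁆ w from hcenA w _ (hαker t w hw)).mul_pow] at h3
    exact mul_eq_right.1 h3
  have hrange : Nat.card θ.range ∣ 4 := by
    have hle : θ.range ≤ (Subgroup.zpowers c).prod (Subgroup.zpowers c) := by
      rintro _ ⟨t, rfl⟩
      exact ⟨mem_zpowers_of_pow_eq_one Nat.prime_two hc2 hc1 (hsq u hu t),
        mem_zpowers_of_pow_eq_one Nat.prime_two hc2 hc1 (hsq v hv t)⟩
    refine (Subgroup.card_dvd_of_le hle).trans ?_
    rw [Nat.card_congr (Subgroup.prodEquiv _ _).toEquiv, Nat.card_prod, Nat.card_zpowers,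
      orderOf_eq_prime hc2 hc1]
  have hker : Nat.card θ.ker ∣ Nat.card A := by
    rw [← Subgroup.card_subtype α.ker θ.ker]
    refine Subgroup.card_dvd_of_le ?_
    rintro _ ⟨t, ht, rfl⟩
    have h1 : adT u hu t = 1 := congrArg Prod.fst ht
    have h2 : adT v hv t = 1 := congrArg Prod.snd ht
    exact mem_of_full hT hAn hAc hAmax hs hNn Nat.one_pos hK hV (by omega) (hcenA (t : H))
      fun y hy => hgen y hy (t : H)
        (commutatorElement_eq_one_iff_mul_comm.1 (congrArg Subtype.val h1))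
        (commutatorElement_eq_one_iff_mul_comm.1 (congrArg Subtype.val h2))
  have hH : Nat.card H ∣ 6 * (4 * (p - 1)) := by
    rw [← α.ker.index_mul_card, Subgroup.index_ker, ← θ.ker.index_mul_card, Subgroup.index_ker]
    exact Nat.mul_dvd_mul (card_aut_dvd_six hNb4 _) (Nat.mul_dvd_mul hrange (hker.trans hAdvd))
  have h := (card_dvd_of_trans hT).trans hH
  rw [hV, show p ^ (1 * 2) - 1 = (p + 1) * (p - 1) by rw [one_mul, ← Nat.sq_sub_sq, one_pow],
    show 6 * (4 * (p - 1)) = 24 * (p - 1) by ring] at h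
  have hp1 := hp.out.two_le
  have hdiv : p + 1 ∣ 24 := Nat.dvd_of_mul_dvd_mul_right (by omega) h
  have hp2 : p ≠ 2 := by
    rintro rfl
    have := hrA.trans hAdvd
    norm_num at this
  have hp23 : p ≤ 23 := by have := Nat.le_of_dvd (by norm_num) hdiv; omega
  interval_cases p <;> first
    | omega
    | (norm_num at hdiv; done)
    | (have := hp.out; norm_num at this; done)

/-- sixty four points -/
theorem six_case [Finite V] [Nontrivial V] (hT : Trans H) (hAn : A.Normal)
    (hAc : IsMulCommutative A)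
    (hAmax : ∀ B : Subgroup H, B.Normal → IsMulCommutative B → A ≤ B → B = A) {r : ℕ}
    (hs : Sympl A N r) (hNn : N.Normal) (hNA : ¬ N ≤ A) (hrA : r ∣ Nat.card A) {k m : ℕ}
    (hk : 0 < k) (hm : 2 ≤ m) (hK : Nat.card (alg A) = p ^ k) (hV : Nat.card V = p ^ (k * m))
    (hp2 : p = 2) (hn : k * m = 6) : False := by
  classical
  haveI := finite_H (H := H)
  haveI := hAn
  haveI := hNn
  haveI : Fact (Nat.Prime 7) := ⟨by norm_num⟩
  obtain ⟨hbound, -⟩ := layer_bound hT hAn hAc hs hk hK hV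
  obtain ⟨d, hd⟩ := hs.square N hs.le le_rfl hs.radical
  have hd1 : 1 ≤ d := by
    by_contra h
    have : d = 0 := by omega
    subst this
    exact hNA (Subgroup.relIndex_eq_one.1 (by simpa using hd))
  have hAdvd := card_dvd_sub_one hT hAn hAc hK
  have hrk := hrA.trans hAdvd
  have h1 : r ^ 2 ≤ r ^ (2 * d) := Nat.pow_le_pow_right hs.prime.pos (by omega)
  rw [← hd] at h1
  subst hp2
  have hk3 : k ≤ 3 := by nlinarith
  have hcase : k = 2 ∧ m = 3 ∧ r = 3 := by
    interval_cases k
    · norm_num at hrk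
      exact absurd hrk hs.prime.ne_one
    · norm_num at hrk
      exact ⟨rfl, by omega, (Nat.prime_dvd_prime_iff_eq hs.prime Nat.prime_three).1 hrk⟩
    · norm_num at hrk
      have := (Nat.prime_dvd_prime_iff_eq hs.prime (by norm_num : Nat.Prime 7)).1 hrk
      have : m = 2 := by omega
      subst_vars
      omega
  obtain ⟨rfl, rfl, rfl⟩ := hcase
  have hrel : A.relIndex N = 9 := by omega
  obtain ⟨x, hx⟩ := exists_prime_orderOf_dvd_card' (G := H) 7
    ((show 7 ∣ Nat.card V - 1 by rw [hV]; norm_num).trans (card_dvd_of_trans hT))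
  have hxC : x ∈ Subgroup.centralizer (A : Set H) := by
    haveI : (Subgroup.centralizer (A : Set H)).Normal := inferInstance
    rw [← QuotientGroup.eq_one_iff, ← orderOf_eq_one_iff]
    refine Nat.eq_one_of_dvd_coprimes (by norm_num : Nat.Coprime 7 2)
      (hx ▸ orderOf_map_dvd (QuotientGroup.mk' _) x) ?_
    refine (orderOf_dvd_natCard _).trans ?_
    rw [← Subgroup.index_eq_card]
    exact galois_index hT hAn hAc hK
  set π : H →* H ⧸ A := QuotientGroup.mk' A
  set Nb := N.map π
  haveI hNbn : Nb.Normal := Subgroup.Normal.map hNn π (QuotientGroup.mk'_surjective A)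
  have hNb9 : Nat.card Nb = 9 := by rw [← hrel, ← Subgroup.relIndex_ker, QuotientGroup.ker_mk']
  set L := Subgroup.zpowers x
  have hL : IsPGroup 7 L := IsPGroup.of_card (n := 1) (by rw [Nat.card_zpowers, hx, pow_one])
  letI : MulAction L Nb := MulAction.compHom Nb
    (((MulAut.conjNormal (H := Nb)).comp π).comp L.subtype)
  have hmod := hL.card_modEq_card_fixedPoints Nb
  set F := Nb ⊓ Subgroup.centralizer {π x}
  have hF : Nat.card (MulAction.fixedPoints L Nb) = Nat.card F := by
    refine Nat.card_congr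
      { toFun := fun q => ⟨((q : Nb) : H ⧸ A), (q : Nb).2, ?_⟩
        invFun := fun q => ⟨⟨(q : H ⧸ A), q.2.1⟩, fun l => ?_⟩
        left_inv := fun q => rfl
        right_inv := fun q => rfl }
    · show ((q : Nb) : H ⧸ A) ∈ Subgroup.centralizer {π x}
      rw [Subgroup.mem_centralizer_singleton_iff]
      have h := congrArg Subtype.val (q.2 ⟨x, Subgroup.mem_zpowers x⟩)
      change π x * ((q : Nb) : H ⧸ A) * (π x)⁻¹ = _ at h
      exact (mul_inv_eq_iff_eq_mul.1 h).symm
    · refine Subtype.ext ?_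
      show π (l : H) * (q : H ⧸ A) * (π (l : H))⁻¹ = (q : H ⧸ A)
      obtain ⟨j, hj⟩ := Subgroup.mem_zpowers_iff.1 l.2
      rw [← hj, map_zpow, mul_inv_eq_iff_eq_mul]
      exact ((show Commute (π x) (q : H ⧸ A) from
        (Subgroup.mem_centralizer_singleton_iff.1 q.2.2).symm).zpow_left j)
  rw [hF, hNb9] at hmod
  have hF9 : Nat.card F = 9 := by
    have h := Subgroup.card_dvd_of_le (show F ≤ Nb from inf_le_left)
    rw [hNb9] at h
    have := Nat.le_of_dvd (by norm_num) h
    unfold Nat.ModEq at hmod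
    generalize Nat.card F = f at *
    interval_cases f <;> omega
  have hFeq : F = Nb := Subgroup.eq_of_le_of_card_ge inf_le_left (by rw [hF9, hNb9])
  have hxA : x ∈ A := by
    refine mem_of_full hT hAn hAc hAmax hs hNn hk hK hV (by omega)
      (Subgroup.mem_centralizer_iff.1 hxC) fun y hy => ?_
    refine hs.fixed_of_mod hNn (show x ^ 7 = 1 by rw [← hx, pow_orderOf_eq_one]) (by norm_num)
      (fun a ha => (Subgroup.mem_centralizer_iff.1 hxC a ha).symm) hy ?_
    rw [← QuotientGroup.eq_one_iff]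
    show π (x * y * x⁻¹ * y⁻¹) = 1
    have hyF : π y ∈ F := hFeq ▸ ⟨y, hy, rfl⟩
    rw [map_mul, map_mul, map_mul, map_inv, map_inv,
      ← Subgroup.mem_centralizer_singleton_iff.1 hyF.2, mul_inv_cancel_right, mul_inv_cancel]
  have := (hx ▸ Subgroup.orderOf_dvd_natCard A hxA).trans hAdvd
  norm_num at this

/-- Huppert's theorem -/
theorem semilinear_or_small [Finite V] [Nontrivial V] (hT : Trans H) (hsolv : Group.IsSolvable H) :
    (∃ (F : Type) (_ : Field F) (_ : Fintype F) (e : V ≃+ F),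
      ∀ h : H, ∃ (a : F) (σ : F ≃+* F), ∀ v : V, e ((h : V ≃ₗ[ZMod p] V) v) = a * σ (e v)) ∨
    Nat.card V ∈ ({9, 25, 49, 121, 529, 81} : Set ℕ) := by
  classical
  haveI := finite_H (H := H)
  obtain ⟨A, ⟨hAn, hAc⟩, hAmax'⟩ := wellFounded_gt.has_min
    {A : Subgroup H | A.Normal ∧ IsMulCommutative A} ⟨⊥, inferInstance, inferInstance⟩
  have hAmax : ∀ B : Subgroup H, B.Normal → IsMulCommutative B → A ≤ B → B = A :=
    fun B hB hBc hle => (hle.eq_or_lt.resolve_right (hAmax' B ⟨hB, hBc⟩)).symm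
  obtain ⟨W, -, hW⟩ := NearField.exists_irr_le (A := A) NearField.inv_top (top_ne_bot (α := Submodule (ZMod p) V))
  by_cases hWt : W = ⊤
  · exact Or.inl (semilinear_of_irr hT hAn hAc (hWt ▸ hW))
  set k := Module.finrank (ZMod p) W
  have hk : 0 < k := by
    haveI : Nontrivial W := Submodule.nontrivial_iff_ne_bot.2 hW.2.1
    exact Module.finrank_pos
  have hK : Nat.card (alg A) = p ^ k := by
    rw [card_alg hT hAn hAc hW, Module.natCard_eq_pow_finrank (K := ZMod p) (V := W), Nat.card_zmod]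
  obtain ⟨m, hm2, hV⟩ : ∃ m, 2 ≤ m ∧ Nat.card V = p ^ (k * m) := by
    letI : CommRing (alg A) :=
      { (inferInstance : Ring (alg A)) with
        mul_comm := fun x y => Subtype.ext (alg_comm hAc x.2 y.2) }
    haveI : IsDomain (alg A) := alg_isDomain hT hAn hAc
    haveI := finite_end (p := p) (V := V)
    have := Fintype.ofFinite (alg A)
    letI : Field (alg A) := Fintype.fieldOfDomain (alg A)
    refine ⟨Module.finrank (alg A) V, ?_, ?_⟩
    · by_contra hlt
      have h := Module.natCard_eq_pow_finrank (K := alg A) (V := V)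
      rw [hK, Module.natCard_eq_pow_finrank (K := ZMod p) (V := V), Nat.card_zmod, ← pow_mul] at h
      have h2 := Nat.pow_right_injective hp.out.two_le h
      have h3 := Submodule.finrank_lt hWt
      have : k * Module.finrank (alg A) V ≤ k * 1 := Nat.mul_le_mul_left k (by omega)
      omega
    · rw [pow_mul, ← hK]
      exact Module.natCard_eq_pow_finrank
  by_cases hC : Subgroup.centralizer (A : Set H) = A
  · exfalso
    have h1 := Nat.le_of_dvd Nat.card_pos (card_dvd_of_trans hT)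
    rw [← A.index_mul_card, hV] at h1
    have h2 : A.index ≤ k := Nat.le_of_dvd hk (hC ▸ galois_index hT hAn hAc hK)
    have hpk : 2 ≤ p ^ k := hp.out.two_le.trans (Nat.le_self_pow hk.ne' p)
    have h3 : Nat.card A ≤ p ^ k - 1 := Nat.le_of_dvd (by omega) (card_dvd_sub_one hT hAn hAc hK)
    have h4 : p ^ (k * 2) ≤ p ^ (k * m) :=
      Nat.pow_le_pow_right hp.out.pos (Nat.mul_le_mul_left k hm2)
    have h5 : k < p ^ k := Nat.lt_pow_self hp.out.one_lt
    have h6 : A.index * Nat.card A ≤ k * (p ^ k - 1) := Nat.mul_le_mul h2 h3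
    rw [pow_mul p k 2, sq] at h4
    have h7 : k * (p ^ k - 1) < (p ^ k + 1) * (p ^ k - 1) :=
      Nat.mul_lt_mul_of_pos_right (by omega) (by omega)
    rw [← Nat.sq_sub_sq, one_pow, sq] at h7
    omega
  obtain ⟨N, r, hNn, hNA, hs, hrA⟩ := exists_layer hT hsolv hAn hAc hAmax hC
  right
  have hkm : 2 ≤ k * m := le_trans hm2 (Nat.le_mul_of_pos_left m hk)
  by_cases h2 : k * m = 2
  · have hk1 : k = 1 := by nlinarith
    have hm : m = 2 := by rw [hk1] at h2; omega
    subst hm
    rw [hk1] at hK hV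
    rw [hV]
    rcases plane_case hT hAn hAc hAmax hs hNn hNA hrA hK hV with h | h | h | h | h <;>
      subst h <;> norm_num
  by_cases h6 : p = 2 ∧ k * m = 6
  · exact (six_case hT hAn hAc hAmax hs hNn hNA hrA hk hm2 hK hV h6.1 h6.2).elim
  obtain ⟨ℓ, hℓ, hℓd, hℓp⟩ := CharP.Zsigmondy.zsigmondy hp.out.one_lt (by omega) h6
    (fun h => h2 h.1)
  obtain ⟨hk1, hℓm, ⟨d, hmd⟩, hp2, hsq⟩ :=
    primitive_step hT hAn hAc hs hNn hNA hrA hk hm2 hK hV hℓ hℓd hℓp
  rw [hk1, one_mul] at hV h2 hℓd hℓp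
  have hpp := hp.out
  have hodd : Odd p := hpp.odd_of_ne_two hp2
  obtain ⟨e, rfl⟩ : ∃ e, d = e + 1 := ⟨d - 1, by
    rcases Nat.eq_zero_or_pos d with h | h
    · subst h; rw [pow_zero] at hmd; omega
    · omega⟩
  have he : 1 ≤ e := by
    by_contra h
    have : e = 0 := by omega
    subst this
    exact h2 hmd
  set s := 2 ^ e
  have hms : m = 2 * s := by rw [hmd, pow_succ']
  have hs2 : 2 ≤ s := Nat.le_self_pow (by omega) 2
  -- the primitive part of the group order is at most the prime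
  have hfac : p ^ s + 1 ∣ p ^ m - 1 := ⟨p ^ s - 1, by
    rw [hms, mul_comm 2 s, pow_mul, ← Nat.sq_sub_sq, one_pow]⟩
  have hH : p ^ s + 1 ∣ Nat.card H := hfac.trans (hV ▸ card_dvd_of_trans hT)
  obtain ⟨q, hq⟩ : ∃ q, p ^ s + 1 = 2 * q ∧ Odd q := by
    obtain ⟨t, ht⟩ := hodd
    obtain ⟨u, hu⟩ : Even s := by
      refine ⟨2 ^ (e - 1), ?_⟩
      rw [← two_mul, ← pow_succ', Nat.sub_add_cancel he]
    refine ⟨2 * ((t * (t + 1)) * (∑ i ∈ Finset.range u, (p ^ 2) ^ i)) + 1, ?_, ⟨_, rfl⟩⟩
    have hg := geom_sum_mul_add (p ^ 2 - 1) u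
    have hp2' : p ^ 2 - 1 + 1 = p ^ 2 := Nat.sub_add_cancel (Nat.one_le_pow _ _ hpp.pos)
    rw [hp2'] at hg
    rw [hu, ← two_mul, pow_mul, ← hg, show p ^ 2 - 1 = 4 * (t * (t + 1)) by
      subst ht
      have : (2 * t + 1) ^ 2 = 4 * (t * (t + 1)) + 1 := by ring
      omega]
    ring
  obtain ⟨hq, hqodd⟩ := hq
  have hprimes : ∀ q', q'.Prime → q' ∣ q → q' = ℓ := by
    intro q' hq' hdq
    have hd1 : q' ∣ p ^ s + 1 := hq ▸ dvd_mul_of_dvd_right hdq 2
    have hd2 : q' ≠ 2 := by
      rintro rfl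
      exact Nat.not_even_iff_odd.2 hqodd (even_iff_two_dvd.2 hdq)
    have hq'p : q' ≠ p := by
      rintro rfl
      have h3 : q' ∣ q' ^ s := dvd_pow_self q' (by omega)
      exact hq'.not_dvd_one ((Nat.dvd_add_right h3).1 hd1)
    have hprim : ∀ j, 0 < j → j < 1 * m → ¬ q' ∣ p ^ j - 1 := by
      intro j hj hjm hdj
      haveI := Fact.mk hq'
      have hpm : (p : ZMod q') ^ s = -1 := by
        rw [eq_neg_iff_add_eq_zero, ← Nat.cast_pow, ← Nat.cast_one, ← Nat.cast_add,
          ZMod.natCast_eq_zero_iff]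
        exact hd1
      have ho : orderOf (p : ZMod q') = 2 ^ (e + 1) := by
        refine orderOf_eq_prime_pow ?_ ?_
        · rw [hpm]
          intro h
          have h' : ((2 : ℕ) : ZMod q') = 0 := by
            have := neg_eq_iff_add_eq_zero.1 h
            norm_num at this ⊢
            exact this
          rw [ZMod.natCast_eq_zero_iff] at h'
          exact hd2 ((Nat.prime_dvd_prime_iff_eq hq' Nat.prime_two).1 h')
        · rw [pow_succ, pow_mul, hpm]; ring
      have hj1 : (p : ZMod q') ^ j = 1 := by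
        rw [← ZMod.natCast_eq_zero_iff, Nat.cast_sub (Nat.one_le_pow _ _ hpp.pos), sub_eq_zero,
          Nat.cast_pow, Nat.cast_one] at hdj
        exact hdj
      have := Nat.le_of_dvd hj (orderOf_dvd_of_pow_eq_one hj1)
      rw [ho] at this
      rw [hmd] at hjm
      omega
    obtain ⟨-, h, -⟩ := primitive_step hT hAn hAc hs hNn hNA hrA Nat.one_pos hm2 (hk1 ▸ hK)
      (by rw [one_mul]; exact hV) hq' (by rw [one_mul]; exact hd1.trans hfac) hprim
    omega
  have hqℓ : q ∣ ℓ := by
    have hq0 : q ≠ 0 := fun h => by rw [h, mul_zero] at hq; omega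
    have hpow := Nat.eq_prime_pow_of_unique_prime_dvd hq0 fun {d} => hprimes d
    set c := q.primeFactorsList.length
    by_contra hnd
    have hc : 2 ≤ c := by
      by_contra hc
      apply hnd
      rw [hpow]
      calc ℓ ^ c ∣ ℓ ^ 1 := pow_dvd_pow ℓ (by omega)
        _ = ℓ := pow_one ℓ
    exact hsq ((pow_dvd_pow ℓ hc).trans ((hpow ▸ Dvd.intro_left 2 hq.symm).trans hH))
  have hle := Nat.le_of_dvd hℓ.pos hqℓ
  have h3 : 3 ≤ p := by have := hpp.two_le; omega
  have h3s : 3 ^ s ≤ p ^ s := Nat.pow_le_pow_left h3 s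
  have hgrow : ∀ t, 3 ≤ t → 4 * t + 4 ≤ 3 ^ t := by
    intro t ht
    induction t, ht using Nat.le_induction with
    | base => norm_num
    | succ t ht ih => rw [pow_succ]; omega
  have hs4 : s = 2 := by
    by_contra h
    have := hgrow s (by omega)
    omega
  have hp3 : p = 3 := by
    rw [hs4] at hq
    nlinarith
  rw [hV, hms, hs4, hp3]
  norm_num

end Cfsg.Agent.Perm.TransLinear
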